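import Groth.Agent.CohGenLib.Compare
import Groth.Agent.KFlatLib.PullTensor
import Groth.Agent.ConsLib.ModLoci
import Groth.Agent.MiscFlat6.PullbackFT
import Groth.Agent.CurvLib.EulerTensor
import Mathlib.AlgebraicGeometry.Morphisms.Flat
import Mathlib.RingTheory.RingHom.FaithfullyFlat
import Mathlib.Topology.Sheaves.Stalks

/-!
# Extension of coherent modules along flat preimmersions
-/

set_option autoImplicit false
set_option linter.style.haveILetI false
set_option linter.unusedSectionVars false

universe u

open CategoryTheory CategoryTheory.Limits AlgebraicGeometry TopologicalSpace Opposite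
open scoped TensorProduct

noncomputable section

namespace CohGenLib

open CycK0Lib (P)
open DevissLib (St)

/-- Pullback along a flat morphism is exact. -/
theorem preservesFiniteLimits_pullback_flat {X Y : Scheme.{u}} (f : X ⟶ Y) [Flat f] :
    PreservesFiniteLimits (Scheme.Modules.pullback f) := by
  haveI : (Scheme.Modules.pullback f).Additive := (Scheme.Modules.pullbackPushforwardAdjunction f).left_adjoint_additive
  have key : ∀ S : ShortComplex Y.Modules, S.ShortExact → (S.map (Scheme.Modules.pullback f)).ShortExact := fun S hS => ?_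
  · exact (((Scheme.Modules.pullback f).exact_tfae.out 0 3 rfl rfl).1 key).1
  refine CurvLib.shortExact_of_stalks _ fun x => ?_
  let φ := (f.stalkMap x).hom
  let F := ModuleCat.extendScalars.{u, u, u} φ
  haveI : F.Additive := (ModuleCat.extendRestrictScalarsAdj φ).left_adjoint_additive
  letI := φ.toAlgebra
  haveI : Module.Flat (Y.presheaf.stalk (f x)) (X.presheaf.stalk x) := Flat.stalkMap f x
  refine ShortComplex.shortExact_of_iso (S.mapNatIso (KFlatLib.stalkPullIso f x)).symm ?_
  have hx := hS.map_of_exact (DerSch.stalkFunctor Y (f x))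
  change ((S.map (DerSch.stalkFunctor Y (f x))).map F).ShortExact
  haveI : PreservesFiniteColimits F := by
    haveI : PreservesColimitsOfSize.{0, 0} F :=
      (ModuleCat.extendRestrictScalarsAdj φ).leftAdjoint_preservesColimits
    exact PreservesColimitsOfSize.preservesFiniteColimits _
  obtain ⟨h1, h2⟩ := ((Functor.preservesFiniteColimits_tfae F).out 3 0 rfl rfl).1 inferInstance _ hx
  exact
    { exact := h1
      mono_f := (ModuleCat.mono_iff_injective _).2 (Module.Flat.lTensor_preserves_injective_linearMap
        (M := X.presheaf.stalk x) _ ((ModuleCat.mono_iff_injective _).1 hx.mono_f))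
      epi_g := h2 }

variable {X U : Scheme.{u}} (g : U ⟶ X) [IsPreimmersion g] [Flat g]

theorem bijective_stalkMap (y : U) : Function.Bijective (g.stalkMap y).hom := by
  refine ⟨?_, g.stalkMap_surjective y⟩
  algebraize [(g.stalkMap y).hom]
  have : Module.FaithfullyFlat (X.presheaf.stalk (g y)) (U.presheaf.stalk y) :=
    @Module.FaithfullyFlat.of_flat_of_isLocalHom _ _ _ _ _ _ _ (Flat.stalkMap g y) (g.toLRSHom.prop y)
  exact ‹RingHom.FaithfullyFlat _›.injective

theorem isIso_counit_pre : IsIso (Scheme.Modules.pullbackPushforwardAdjunction g).counit := by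
  haveI : ∀ H, IsIso ((Scheme.Modules.pullbackPushforwardAdjunction g).counit.app H) := fun H => by
    let adj := Scheme.Modules.pullbackPushforwardAdjunction g
    refine KFlatLib.isIso_of_stalks _ fun y => (ConcreteCategory.isIso_iff_bijective _).2 ?_
    letI := (g.stalkMap y).hom.toAlgebra
    let R := X.presheaf.stalk (g y)
    let N := (St (g y)).obj ((Scheme.Modules.pushforward g).obj H)
    let ν : N → (St y).obj ((Scheme.Modules.pullback g).obj ((Scheme.Modules.pushforward g).obj H)) := fun n =>
      ((KFlatLib.stalkPullIso g y).inv.app ((Scheme.Modules.pushforward g).obj H)).hom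
        ((1 : U.presheaf.stalk y) ⊗ₜ[R] n)
    have hν : Function.Bijective ν := by
      refine (ConcreteCategory.bijective_of_isIso
        ((KFlatLib.stalkPullIso g y).inv.app ((Scheme.Modules.pushforward g).obj H))).comp ?_
      let e : R ≃ₐ[R] U.presheaf.stalk y := AlgEquiv.ofBijective (Algebra.ofId R (U.presheaf.stalk y)) (bijective_stalkMap g y)
      have h1 : (fun n : N => (1 : U.presheaf.stalk y) ⊗ₜ[R] n) =
          ⇑((TensorProduct.congr e.toLinearEquiv (LinearEquiv.refl R N)).toEquiv) ∘ ⇑(TensorProduct.lid R N).symm := by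
        funext n
        simp
      show Function.Bijective fun n : N => (1 : U.presheaf.stalk y) ⊗ₜ[R] n
      rw [h1]
      exact (Equiv.bijective _).comp (LinearEquiv.bijective _)
    have hcomp : ∀ n : N, (((DerSch.stalkFunctor U y).map (adj.counit.app H)).hom) (ν n) =
        (TopCat.Presheaf.stalkPushforward AddCommGrpCat.{u} g.base H.presheaf y) n := by
      intro n
      obtain ⟨W, hW, s, rfl⟩ := DevissLib.exists_gm_eq ((Scheme.Modules.pushforward g).obj H) (g y) n
      refine (congrArg _ (KFlatLib.stalkPullInv_germ g _ y hW s)).trans ?_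
      refine (DevissLib.gm_app (adj.counit.app H) y (U := g ⁻¹ᵁ W) hW _).trans ?_
      refine Eq.trans ?_ (ConcreteCategory.congr_hom
        (TopCat.Presheaf.stalkPushforward_germ AddCommGrpCat.{u} g.base H.presheaf W y hW) s).symm
      refine congrArg (H.presheaf.germ (g ⁻¹ᵁ W) y hW) ?_
      exact congr($(adj.right_triangle_components H).app W s)
    haveI : IsIso (TopCat.Presheaf.stalkPushforward AddCommGrpCat.{u} g.base H.presheaf y) :=
      TopCat.Presheaf.stalkPushforward.stalkPushforward_iso_of_isInducing AddCommGrpCat.{u}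
        g.isEmbedding.isInducing H.presheaf y
    have hb : Function.Bijective (⇑((DerSch.stalkFunctor U y).map (adj.counit.app H)).hom ∘ ν) := by
      rw [show ⇑((DerSch.stalkFunctor U y).map (adj.counit.app H)).hom ∘ ν = _ from funext hcomp]
      exact ConcreteCategory.bijective_of_isIso (TopCat.Presheaf.stalkPushforward AddCommGrpCat.{u} g.base H.presheaf y)
    exact (Function.Bijective.of_comp_iff _ hν).1 hb
  exact NatIso.isIso_of_isIso_app _

variable [QuasiCompact g] [QuasiSeparated g] [IsNoetherian X] [IsNoetherian U]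

theorem isCoh_pullback {F : X.Modules} (hF : Coh.IsCoh F) : Coh.IsCoh ((Scheme.Modules.pullback g).obj F) :=
  haveI := hF.1
  ⟨KFlatLib.isQCoh_pullback g F, ConsLib.isFT_pullback g F hF.2⟩

/-- Coherent modules extend from flat preimmersions. -/
theorem exists_extension_pre {H : U.Modules} (hH : Coh.IsCoh H) :
    ∃ F : X.Modules, Coh.IsCoh F ∧ Nonempty ((Scheme.Modules.pullback g).obj F ≅ H) := by
  haveI := isIso_counit_pre g
  haveI := preservesFiniteLimits_pullback_flat g
  haveI := hH.1
  haveI := QCohLib.isQCoh_pushforward g H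
  let adj := Scheme.Modules.pullbackPushforwardAdjunction g
  haveI : IsIso (adj.counit.app H) := inferInstance
  obtain ⟨G, φ, hG, hGft, hφ⟩ := MiscFlat6.exists_ft_sub_epi (f := g)
    (K := (Scheme.Modules.pushforward g).obj H) (adj.counit.app H) hH.2
  let m := adj.homEquiv G H φ
  haveI : Coh.IsQCoh G := hG
  have hK : Coh.IsCoh (kernel m) := QCohLib.isCoh_kernel m ⟨hG, hGft⟩ inferInstance
  refine ⟨Abelian.coimage m, QCohLib.isCoh_cokernel _ hK.1 ⟨hG, hGft⟩, ⟨?_⟩⟩
  let c := (Scheme.Modules.pullback g).map (Abelian.factorThruCoimage m) ≫ adj.counit.app H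
  have hc : (Scheme.Modules.pullback g).map (cokernel.π (kernel.ι m)) ≫ c = φ := by
    rw [← Category.assoc, ← Functor.map_comp, Abelian.coimage.fac]
    exact (Adjunction.homEquiv_counit adj _ _ _).symm.trans ((adj.homEquiv _ _).symm_apply_apply _)
  haveI : Epi c := by
    haveI : Epi ((Scheme.Modules.pullback g).map (cokernel.π (kernel.ι m)) ≫ c) := by rw [hc]; exact hφ
    exact epi_of_epi ((Scheme.Modules.pullback g).map (cokernel.π (kernel.ι m))) c
  haveI : IsIso c := isIso_of_mono_of_epi c
  exact asIso c

/-- Classes on a flat preimmersion, modulo classes supported off it. -/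
theorem exists_localized_pre : ∃ ψ : SGA6.Kcoh U →+ SGA6.Kcoh X ⧸ lower (fun x => x ∉ Set.range ⇑g),
    ∀ F : X.Modules, Coh.IsCoh F → ψ (cl ((Scheme.Modules.pullback g).obj F)) = QuotientAddGroup.mk (cl F) := by
  classical
  haveI := isIso_counit_pre g
  haveI := preservesFiniteLimits_pullback_flat g
  let R := Scheme.Modules.pullback g
  let adj := Scheme.Modules.pullbackPushforwardAdjunction g
  let q := QuotientAddGroup.mk' (lower (X := X) (fun x => x ∉ Set.range ⇑g))
  let φ : U.Modules → SGA6.Kcoh X ⧸ lower (fun x => x ∉ Set.range ⇑g) := fun G =>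
    if h : Coh.IsCoh G then q (cl (exists_extension_pre g h).choose) else 0
  have hφ : ∀ (G : U.Modules) (F : X.Modules), Coh.IsCoh G → Coh.IsCoh F → Nonempty (R.obj F ≅ G) →
      φ G = q (cl F) := by
    rintro G F hG hF ⟨e⟩
    simp only [φ, dif_pos hG]
    obtain ⟨hc, ⟨e'⟩⟩ := (exists_extension_pre g hG).choose_spec
    rw [← sub_eq_zero, ← map_sub]
    have h := sub_mem_lower_of_iso g (mem_top hc) (mem_top hF) (e' ≪≫ e.symm)
    simp only [true_and] at h
    exact (QuotientAddGroup.eq_zero_iff _).2 h
  obtain ⟨ψ, hψ⟩ := Groth.Agent.KHeartLib.exists_lift_sub (fun M : U.Modules => Coh.IsCoh M) φ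
    (fun S hS h₁ h₂ h₃ => by
      haveI := h₃.1
      haveI := QCohLib.isQCoh_pushforward g S.X₃
      obtain ⟨B, hB, ⟨e⟩⟩ := exists_extension_pre g h₂
      haveI := hB.1
      haveI := hS.epi_g
      let m : B ⟶ (Scheme.Modules.pushforward g).obj S.X₃ := adj.homEquiv _ _ (e.hom ≫ S.g)
      have hA : Coh.IsCoh (kernel m) := QCohLib.isCoh_kernel m hB inferInstance
      have hC : Coh.IsCoh (Abelian.coimage m) := QCohLib.isCoh_cokernel _ hA.1 hB
      let K := ShortComplex.mk (kernel.ι m) (cokernel.π (kernel.ι m)) (cokernel.condition _)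
      have hK : K.ShortExact := { exact := ShortComplex.exact_of_g_is_cokernel _ (cokernelIsCokernel _) }
      have hKR := hK.map_of_exact R
      let c : R.obj (Abelian.coimage m) ⟶ S.X₃ := R.map (Abelian.factorThruCoimage m) ≫ adj.counit.app S.X₃
      have hc : R.map (cokernel.π (kernel.ι m)) ≫ c = e.hom ≫ S.g := by
        rw [← Category.assoc, ← Functor.map_comp, Abelian.coimage.fac]
        exact (Adjunction.homEquiv_counit adj _ _ _).symm.trans ((adj.homEquiv _ _).symm_apply_apply _)
      haveI : Epi c := by
        haveI : Epi (R.map (cokernel.π (kernel.ι m)) ≫ c) := by rw [hc]; infer_instance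
        exact epi_of_epi (R.map (cokernel.π (kernel.ι m))) c
      haveI : IsIso (adj.counit.app S.X₃) := inferInstance
      haveI : IsIso c := isIso_of_mono_of_epi c
      haveI := hS.mono_f
      haveI := hKR.mono_f
      let eA : R.obj (kernel m) ≅ S.X₁ :=
        (IsLimit.conePointUniqueUpToIso hKR.fIsKernel (limit.isLimit _)) ≪≫
          kernel.mapIso (R.map (cokernel.π (kernel.ι m))) S.g e (asIso c) hc ≪≫
            (IsLimit.conePointUniqueUpToIso hS.fIsKernel (limit.isLimit _)).symm
      rw [hφ _ _ h₁ hA ⟨eA⟩, hφ _ _ h₂ hB ⟨e⟩, hφ _ _ h₃ hC ⟨asIso c⟩, ← map_add]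
      exact congrArg q (Groth.Agent.KHeartLib.clSub_add _ K hK hA hB hC))
  exact ⟨ψ, fun F hF => (hψ _ (isCoh_pullback g hF)).trans (hφ _ F (isCoh_pullback g hF) hF ⟨Iso.refl _⟩)⟩

end CohGenLib

end
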