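import Groth.Agent.CohGenLib.Basic
import Groth.Agent.CycKSuppLib.Main
import Groth.Agent.StrictModLib.Extend
import Groth.Agent.VBResLib.Euler

/-!
# The localization sequence of `K₀` of coherent modules
-/

set_option autoImplicit false
set_option linter.style.haveILetI false
set_option linter.unusedSectionVars false

universe u

open CategoryTheory CategoryTheory.Limits AlgebraicGeometry TopologicalSpace Opposite

noncomputable section

namespace CohGenLib

open CycK0Lib (P)

variable {X X' U : Scheme.{u}} (i : X' ⟶ X) (j : U ⟶ X)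

theorem mem_support_restrict [IsOpenImmersion j] (F : X.Modules) (x : U) :
    x ∈ CohB1.support ((Scheme.Modules.restrictFunctor j).obj F) ↔ j x ∈ CohB1.support F :=
  not_congr (((Scheme.Modules.restrictStalkNatIso j x).app F).addCommGroupIsoToAddEquiv.toEquiv.subsingleton_congr)

theorem isCoh_restrict [IsOpenImmersion j] {F : X.Modules} (hF : Coh.IsCoh F) :
    Coh.IsCoh ((Scheme.Modules.restrictFunctor j).obj F) :=
  haveI := hF.1
  QCohLib.isCoh_of_iso ((Scheme.Modules.restrictFunctorIsoPullback j).app F).symm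
    ⟨KFlatLib.isQCoh_pullback j F, ConsLib.isFT_pullback j F hF.2⟩

theorem exists_extension [IsNoetherian X] [IsOpenImmersion j] {G : U.Modules} (hG : Coh.IsCoh G) :
    ∃ F : X.Modules, Coh.IsCoh F ∧ Nonempty ((Scheme.Modules.restrictFunctor j).obj F ≅ G) := by
  obtain ⟨F, hF, ⟨e⟩⟩ := StrictModLib.exists_coh_extend j G hG
  exact ⟨F, hF, ⟨(Scheme.Modules.restrictFunctorIsoPullback j).app F ≪≫ e⟩⟩

/-- The classes pushed forward from the closed subscheme. -/
def pushed [(Scheme.Modules.pushforward i).Additive] [PreservesFiniteLimits (Scheme.Modules.pushforward i)]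
    [PreservesFiniteColimits (Scheme.Modules.pushforward i)]
    (hi : ∀ M : X'.Modules, Coh.IsCoh M → Coh.IsCoh ((Scheme.Modules.pushforward i).obj M)) :
    AddSubgroup (SGA6.Kcoh X) :=
  (SGA6.mapSub (Scheme.Modules.pushforward i) (fun M : (X').Modules => Coh.IsCoh M)
    (fun M : (X).Modules => Coh.IsCoh M) hi).range

variable [IsNoetherian X] [IsClosedImmersion i]
  [(Scheme.Modules.pushforward i).Additive] [PreservesFiniteLimits (Scheme.Modules.pushforward i)]
  [PreservesFiniteColimits (Scheme.Modules.pushforward i)]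
  (hi : ∀ M : X'.Modules, Coh.IsCoh M → Coh.IsCoh ((Scheme.Modules.pushforward i).obj M))

theorem cl_mem_pushed {F : X.Modules} (hF : Coh.IsCoh F) (hs : CohB1.support F ⊆ Set.range ⇑i) :
    cl F ∈ pushed i hi := by
  haveI := LocallyOfFiniteType.isLocallyNoetherian i
  obtain ⟨φ, hφ⟩ := CycKSuppLib.exists_equiv i
  obtain ⟨ι, hι⟩ := CycK0Lib.exists_lift (addOn_cl (fun x : X => x ∈ Set.range ⇑i))
  have hall : ∀ a : KZero.K0sub (P fun _ : X' => True), ι (φ a) ∈ pushed i hi := fun a => by
    refine CycK0Lib.induction_clSub (motive := fun a => ι (φ a) ∈ pushed i hi) (by rw [map_zero, map_zero]; exact zero_mem _)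
      (fun G hG => ?_) (fun a ha => by rw [map_neg, map_neg]; exact neg_mem ha)
      (fun a b ha hb => by rw [map_add, map_add]; exact add_mem ha hb) a
    rw [hφ G hG.coh, hι _ (P.mk (hi G hG.coh) fun x hx => DevissLib.support_push_subset i G hx)]
    exact ⟨cl G, VBResLib.mapSub_clSub _ _ _ hi hG.coh⟩
  have h := hall (φ.symm (KZero.clSub (P fun x : X => x ∈ Set.range ⇑i) F))
  rwa [φ.apply_symm_apply, hι F (P.mk hF fun x hx => hs hx)] at h

variable [IsOpenImmersion j] (hU : Set.range j = (Set.range i)ᶜ)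
  [PreservesFiniteLimits (Scheme.Modules.restrictFunctor j)]

include hU in
theorem support_subset_of_isZero {F : X.Modules} (h : IsZero ((Scheme.Modules.restrictFunctor j).obj F)) :
    CohB1.support F ⊆ Set.range ⇑i := fun x hx => by
  by_contra hn
  obtain ⟨u, rfl⟩ : x ∈ Set.range ⇑j := hU ▸ hn
  have := (mem_support_restrict j F u).2 hx
  rw [DevissLib.support_of_isZero h] at this
  exact this

include hU in
theorem sub_mem_of_isIso {F G : X.Modules} (hF : Coh.IsCoh F) (hG : Coh.IsCoh G) (f : F ⟶ G)
    [IsIso ((Scheme.Modules.restrictFunctor j).map f)] : cl F - cl G ∈ pushed i hi := by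
  let R := Scheme.Modules.restrictFunctor j
  have hk : IsZero (R.obj (kernel f)) := (isZero_kernel_of_mono (R.map f)).of_iso (PreservesKernel.iso R f)
  have hc : IsZero (R.obj (cokernel f)) :=
    (isZero_cokernel_of_epi (R.map f)).of_iso (PreservesCokernel.iso R f)
  let q := QuotientAddGroup.mk' (pushed i hi)
  have hq := (addOn_comp (addOn_cl (fun _ : X => True)) q).of_negligible (D' := fun x => x ∈ Set.range ⇑i)
    (fun _ _ => trivial) (fun H hH => (QuotientAddGroup.eq_zero_iff _).2 (cl_mem_pushed i hi hH.coh fun x hx => hH.supp hx))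
    f (mem_top hF) (mem_top hG) (fun x hx => support_subset_of_isZero i j hU hk hx)
    (fun x hx => support_subset_of_isZero i j hU hc hx)
  rw [← QuotientAddGroup.eq_zero_iff, QuotientAddGroup.mk_sub, sub_eq_zero]
  exact hq

omit [PreservesFiniteLimits (Scheme.Modules.restrictFunctor j)] [AlgebraicGeometry.IsNoetherian X] in
theorem isIso_restrict_unit (F : X.Modules) :
    IsIso ((Scheme.Modules.restrictFunctor j).map ((Scheme.Modules.restrictAdjunction j).unit.app F)) := by
  have h := (Scheme.Modules.restrictAdjunction j).left_triangle_components F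
  exact IsIso.of_isIso_fac_right h

include hU in
theorem sub_mem_of_iso {F G : X.Modules} (hF : Coh.IsCoh F) (hG : Coh.IsCoh G)
    (θ : (Scheme.Modules.restrictFunctor j).obj F ≅ (Scheme.Modules.restrictFunctor j).obj G) :
    cl F - cl G ∈ pushed i hi := by
  haveI := hF.1
  haveI := hG.1
  haveI : Coh.IsQCoh ((Scheme.Modules.restrictFunctor j).obj G) := (isCoh_restrict j hG).1
  haveI : IsLocallyNoetherian U := LocallyOfFiniteType.isLocallyNoetherian j
  haveI := QCohLib.isQCoh_pushforward j ((Scheme.Modules.restrictFunctor j).obj G)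
  let R := Scheme.Modules.restrictFunctor j
  let adj := Scheme.Modules.restrictAdjunction j
  let a := adj.unit.app F ≫ (Scheme.Modules.pushforward j).map θ.hom
  let b := adj.unit.app G
  let m := biprod.desc a b
  haveI : IsIso (R.map b) := isIso_restrict_unit j G
  haveI : IsIso (R.map a) := by
    haveI := isIso_restrict_unit j F
    rw [Functor.map_comp]
    infer_instance
  have hFG := DevissLib.isCoh_biprod hF hG
  have hE : Coh.IsCoh (Abelian.coimage m) := QCohLib.isCoh_cokernel _
    (QCohLib.isCoh_kernel m hFG inferInstance).1 hFG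
  let f : F ⟶ Abelian.coimage m := biprod.inl ≫ cokernel.π (kernel.ι m)
  let g : G ⟶ Abelian.coimage m := biprod.inr ≫ cokernel.π (kernel.ι m)
  have hf : f ≫ Abelian.factorThruCoimage m = a := by simp [f, m]
  have hg : g ≫ Abelian.factorThruCoimage m = b := by simp [g, m]
  haveI : Mono (R.map (Abelian.factorThruCoimage m)) := inferInstance
  haveI : IsSplitEpi (R.map (Abelian.factorThruCoimage m)) :=
    ⟨⟨⟨inv (R.map a) ≫ R.map f, by rw [Category.assoc, ← Functor.map_comp, hf, IsIso.inv_hom_id]⟩⟩⟩
  haveI : IsIso (R.map (Abelian.factorThruCoimage m)) := isIso_of_mono_of_isSplitEpi _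
  haveI : IsIso (R.map f) := by
    have e : R.map f ≫ R.map (Abelian.factorThruCoimage m) = R.map a := by rw [← Functor.map_comp, hf]
    exact IsIso.of_isIso_fac_right e
  haveI : IsIso (R.map g) := by
    have e : R.map g ≫ R.map (Abelian.factorThruCoimage m) = R.map b := by rw [← Functor.map_comp, hg]
    exact IsIso.of_isIso_fac_right e
  have h := sub_mem (sub_mem_of_isIso i j hi hU hF hE f) (sub_mem_of_isIso i j hi hU hG hE g)
  rwa [sub_sub_sub_cancel_right] at h

include hU in
theorem exists_localized : ∃ ψ : SGA6.Kcoh U →+ SGA6.Kcoh X ⧸ pushed i hi,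
    ∀ F : X.Modules, Coh.IsCoh F → ψ (cl ((Scheme.Modules.restrictFunctor j).obj F)) = QuotientAddGroup.mk (cl F) := by
  classical
  let R := Scheme.Modules.restrictFunctor j
  haveI : IsLocallyNoetherian U := LocallyOfFiniteType.isLocallyNoetherian j
  let q := QuotientAddGroup.mk' (pushed i hi)
  let φ : U.Modules → SGA6.Kcoh X ⧸ pushed i hi := fun G =>
    if h : Coh.IsCoh G then q (cl (exists_extension j h).choose) else 0
  have hφ : ∀ (G : U.Modules) (F : X.Modules), Coh.IsCoh G → Coh.IsCoh F → Nonempty (R.obj F ≅ G) →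
      φ G = q (cl F) := by
    rintro G F hG hF ⟨e⟩
    simp only [φ, dif_pos hG]
    obtain ⟨hc, ⟨e'⟩⟩ := (exists_extension j hG).choose_spec
    rw [← sub_eq_zero, ← map_sub]
    exact (QuotientAddGroup.eq_zero_iff _).2 (sub_mem_of_iso i j hi hU hc hF (e' ≪≫ e.symm))
  obtain ⟨ψ, hψ⟩ := Groth.Agent.KHeartLib.exists_lift_sub (fun M : U.Modules => Coh.IsCoh M) φ
    (fun S hS h₁ h₂ h₃ => by
      haveI := h₃.1
      haveI := QCohLib.isQCoh_pushforward j S.X₃
      obtain ⟨B, hB, ⟨e⟩⟩ := exists_extension j h₂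
      haveI := hB.1
      haveI := hS.epi_g
      let adj := Scheme.Modules.restrictAdjunction j
      let m : B ⟶ (Scheme.Modules.pushforward j).obj S.X₃ := adj.homEquiv _ _ (e.hom ≫ S.g)
      have hA : Coh.IsCoh (kernel m) := QCohLib.isCoh_kernel m hB inferInstance
      have hC : Coh.IsCoh (Abelian.coimage m) := QCohLib.isCoh_cokernel _ hA.1 hB
      let K := ShortComplex.mk (kernel.ι m) (cokernel.π (kernel.ι m)) (cokernel.condition _)
      have hK : K.ShortExact := { exact := ShortComplex.exact_of_g_is_cokernel _ (cokernelIsCokernel _) }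
      have hKR := hK.map_of_exact R
      let c : R.obj (Abelian.coimage m) ⟶ S.X₃ := R.map (Abelian.factorThruCoimage m) ≫ adj.counit.app S.X₃
      have hc : R.map (cokernel.π (kernel.ι m)) ≫ c = e.hom ≫ S.g := by
        rw [← Category.assoc, ← Functor.map_comp, Abelian.coimage.fac]
        exact ((Adjunction.homEquiv_counit adj _ _ _).symm).trans ((adj.homEquiv _ _).symm_apply_apply _)
      haveI : Epi c := by
        haveI : Epi (R.map (cokernel.π (kernel.ι m)) ≫ c) := by rw [hc]; infer_instance
        exact epi_of_epi (R.map (cokernel.π (kernel.ι m))) c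
      haveI : IsIso (adj.counit.app S.X₃) := inferInstance
      haveI : IsIso c := isIso_of_mono_of_epi c
      haveI := hS.mono_f
      haveI := hKR.mono_f
      let eA : R.obj (kernel m) ≅ S.X₁ :=
        (IsLimit.conePointUniqueUpToIso hKR.fIsKernel (limit.isLimit _)) ≪≫
          kernel.mapIso (R.map (cokernel.π (kernel.ι m))) S.g e (asIso c) hc ≪≫
            (IsLimit.conePointUniqueUpToIso hS.fIsKernel (limit.isLimit _)).symm
      rw [hφ _ _ h₁ hA ⟨eA⟩, hφ _ _ h₂ hB ⟨e⟩, hφ _ _ h₃ hC ⟨asIso c⟩, ← map_add]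
      exact congrArg q (Groth.Agent.KHeartLib.clSub_add _ K hK hA hB hC))
  exact ⟨ψ, fun F hF => (hψ _ (isCoh_restrict j hF)).trans (hφ _ F (isCoh_restrict j hF) hF ⟨Iso.refl _⟩)⟩

end CohGenLib

end
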