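import Groth.Agent.CohGenLib.Basic
import Groth.Agent.KFlatLib.QCohLpull
import Groth.Agent.KFlatLib.QCohPull
import Groth.Agent.S4357

/-!
# Comparing classes of coherent modules that agree on a subscheme with fully faithful push-forward
-/

set_option autoImplicit false
set_option linter.style.haveILetI false
set_option linter.unusedSectionVars false

universe u

open CategoryTheory CategoryTheory.Limits AlgebraicGeometry TopologicalSpace Opposite

noncomputable section

namespace CohGenLib

open CycK0Lib (P)

variable {X U : Scheme.{u}} (g : U ⟶ X) [QuasiCompact g] [QuasiSeparated g]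
  [IsLocallyNoetherian X] [IsLocallyNoetherian U]
  [IsIso (Scheme.Modules.pullbackPushforwardAdjunction g).counit]
  [PreservesFiniteLimits (Scheme.Modules.pullback g)]

omit [QuasiCompact g] [QuasiSeparated g] [IsLocallyNoetherian U] in
theorem notMem_range_of_isZero_pullback {F : X.Modules} (hF : Coh.IsCoh F)
    (h : IsZero ((Scheme.Modules.pullback g).obj F)) {x : X} (hx : x ∈ CohB1.support F) : x ∉ Set.range ⇑g := by
  rintro ⟨y, rfl⟩
  haveI := hF.1
  have h1 : y ∈ CohB1.support ((Scheme.Modules.pullback g).obj F) := by
    rw [Groth.Agent.S4357.result g F hF.2]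
    exact hx
  rw [DevissLib.support_of_isZero h] at h1
  exact h1

theorem sub_mem_lower_of_isIso {T : X → Prop} {F G : X.Modules} (hF : P T F) (hG : P T G) (f : F ⟶ G)
    [IsIso ((Scheme.Modules.pullback g).map f)] :
    cl F - cl G ∈ lower (fun x => T x ∧ x ∉ Set.range ⇑g) := by
  let R := Scheme.Modules.pullback g
  haveI := hF.1.1
  have hk : IsZero (R.obj (kernel f)) := (isZero_kernel_of_mono (R.map f)).of_iso (PreservesKernel.iso R f)
  have hc : IsZero (R.obj (cokernel f)) :=
    (isZero_cokernel_of_epi (R.map f)).of_iso (PreservesCokernel.iso R f)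
  let q := QuotientAddGroup.mk' (lower (fun x => T x ∧ x ∉ Set.range ⇑g))
  have hq := (addOn_comp (addOn_cl T) q).of_negligible (D' := fun x => T x ∧ x ∉ Set.range ⇑g)
    (fun _ h => h.1) (fun H hH => (QuotientAddGroup.eq_zero_iff _).2 (cl_mem_lower hH))
    f hF hG
    (fun x hx => ⟨(hF.kernel f hG.1.1).supp hx,
      notMem_range_of_isZero_pullback g (hF.kernel f hG.1.1).coh hk hx⟩)
    (fun x hx => ⟨(hG.cokernel f hF.1.1).supp hx,
      notMem_range_of_isZero_pullback g (hG.cokernel f hF.1.1).coh hc hx⟩)
  rw [← QuotientAddGroup.eq_zero_iff, QuotientAddGroup.mk_sub, sub_eq_zero]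
  exact hq

omit [QuasiCompact g] [QuasiSeparated g] [IsLocallyNoetherian X] [IsLocallyNoetherian U]
  [PreservesFiniteLimits (Scheme.Modules.pullback g)] in
theorem isIso_pullback_unit (F : X.Modules) :
    IsIso ((Scheme.Modules.pullback g).map ((Scheme.Modules.pullbackPushforwardAdjunction g).unit.app F)) :=
  IsIso.of_isIso_fac_right ((Scheme.Modules.pullbackPushforwardAdjunction g).left_triangle_components F)

/-- Two modules in a level with isomorphic restrictions differ by classes of the level supported
off the subscheme. -/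
theorem sub_mem_lower_of_iso {T : X → Prop} {F G : X.Modules} (hF : P T F) (hG : P T G)
    (θ : (Scheme.Modules.pullback g).obj F ≅ (Scheme.Modules.pullback g).obj G) :
    cl F - cl G ∈ lower (fun x => T x ∧ x ∉ Set.range ⇑g) := by
  haveI := hF.1.1
  haveI := hG.1.1
  haveI : Coh.IsQCoh ((Scheme.Modules.pullback g).obj G) := KFlatLib.isQCoh_pullback g G
  haveI := QCohLib.isQCoh_pushforward g ((Scheme.Modules.pullback g).obj G)
  let R := Scheme.Modules.pullback g
  let adj := Scheme.Modules.pullbackPushforwardAdjunction g
  let a := adj.unit.app F ≫ (Scheme.Modules.pushforward g).map θ.hom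
  let b := adj.unit.app G
  let m := biprod.desc a b
  haveI : IsIso (R.map b) := isIso_pullback_unit g G
  haveI : IsIso (R.map a) := by
    haveI := isIso_pullback_unit g F
    rw [Functor.map_comp]
    infer_instance
  have hFG := hF.biprod hG
  have hE : P T (Abelian.coimage m) := (hFG.cokernel _ (hFG.kernel m inferInstance).1.1)
  let f : F ⟶ Abelian.coimage m := biprod.inl ≫ cokernel.π (kernel.ι m)
  let f' : G ⟶ Abelian.coimage m := biprod.inr ≫ cokernel.π (kernel.ι m)
  have hf : f ≫ Abelian.factorThruCoimage m = a := by simp [f, m]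
  have hf' : f' ≫ Abelian.factorThruCoimage m = b := by simp [f', m]
  haveI : Mono (R.map (Abelian.factorThruCoimage m)) := inferInstance
  haveI : IsSplitEpi (R.map (Abelian.factorThruCoimage m)) :=
    ⟨⟨⟨inv (R.map a) ≫ R.map f, by rw [Category.assoc, ← Functor.map_comp, hf, IsIso.inv_hom_id]⟩⟩⟩
  haveI : IsIso (R.map (Abelian.factorThruCoimage m)) := isIso_of_mono_of_isSplitEpi _
  haveI : IsIso (R.map f) := by
    have e : R.map f ≫ R.map (Abelian.factorThruCoimage m) = R.map a := by rw [← Functor.map_comp, hf]
    exact IsIso.of_isIso_fac_right e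
  haveI : IsIso (R.map f') := by
    have e : R.map f' ≫ R.map (Abelian.factorThruCoimage m) = R.map b := by rw [← Functor.map_comp, hf']
    exact IsIso.of_isIso_fac_right e
  have h := sub_mem (sub_mem_lower_of_isIso g hF hE f) (sub_mem_lower_of_isIso g hG hE f')
  rwa [sub_sub_sub_cancel_right] at h

omit g in
/-- For an open immersion, the push-forward is fully faithful. -/
theorem isIso_counit_open {X U : Scheme.{u}} (j : U ⟶ X) [IsOpenImmersion j] :
    IsIso (Scheme.Modules.pullbackPushforwardAdjunction j).counit := by
  haveI : IsIso (Scheme.Modules.restrictAdjunction j).counit :=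
    inferInstanceAs (IsIso (Scheme.Modules.restrictFunctorAdjCounitIso j).hom)
  haveI := (Scheme.Modules.restrictAdjunction j).fullyFaithfulROfIsIsoCounit.full
  haveI := (Scheme.Modules.restrictAdjunction j).fullyFaithfulROfIsIsoCounit.faithful
  infer_instance

end CohGenLib

end
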