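import Groth.Agent.CohGenLib.Compare
import Groth.Agent.CurvLib.EulerTensor
import Groth.Agent.IntMultLib.Components
import Groth.Agent.KFlatLib.PerfectPull

/-!
# Locally free modules of rank `r` act as `r` up to classes of smaller support
-/

set_option autoImplicit false
set_option linter.style.haveILetI false
set_option linter.unusedSectionVars false

universe u

open CategoryTheory CategoryTheory.Limits AlgebraicGeometry TopologicalSpace Opposite MonoidalCategory

noncomputable section

namespace CohGenLib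

open CycK0Lib (P)

variable {X : Scheme.{u}}

theorem support_tensor_subset (V M : X.Modules) : CohB1.support (CohB1.tensorMod V M) ⊆ CohB1.support M :=
  fun x hx => by
  by_contra hM
  refine hx ?_
  haveI : Subsingleton ((DerSch.stalkFunctor X x).obj M) := not_not.mp hM
  haveI : Subsingleton ((DerSch.stalkFunctor X x).obj V ⊗ (DerSch.stalkFunctor X x).obj M : ModuleCat _) :=
    inferInstanceAs (Subsingleton (TensorProduct (X.presheaf.stalk x) ((DerSch.stalkFunctor X x).obj V) ((DerSch.stalkFunctor X x).obj M)))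
  exact ((KFlatLib.stalkTensorIso V M x).toLinearEquiv.toEquiv.subsingleton_congr).1 ‹_›

theorem P_tensor [IsLocallyNoetherian X] {r : ℕ} {V : X.Modules} (hV : FlatMod.IsFinLocFreeOfRank r V)
    {T : X → Prop} {G : X.Modules} (hG : P T G) : P T (CohB1.tensorMod V G) :=
  P.mk (QCohLib.isCoh_of_iso (KFlatLib.tensSwap G V).symm (IntMultLib.isCoh_tensor_locFree hV hG.coh))
    fun _ hx => hG.supp (support_tensor_subset V G hx)

theorem cl_tensor_free [IsLocallyNoetherian X] {G : X.Modules} (hG : Coh.IsCoh G) : ∀ r : ℕ,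
    cl (CohB1.tensorMod G (FlatMod.freeMod X r)) = r • cl G
  | 0 => by
    rw [zero_nsmul]
    exact (addOn_cl (fun _ : X => True)).zero (Functor.map_isZero ((DCoh.tensorBi (X := X)).obj G) (by
      rw [IsZero.iff_id_eq_zero]
      exact Sigma.hom_ext _ _ fun i => i.elim0))
  | n + 1 => by
    haveI : Limits.PreservesBinaryBiproduct (Coh.structureModule X) (FlatMod.freeMod X n)
        ((DCoh.tensorBi (X := X)).obj G) :=
      preservesBinaryBiproduct_of_preservesBinaryProduct _
    let e : CohB1.tensorMod G (FlatMod.freeMod X (n + 1)) ≅ G ⊞ CohB1.tensorMod G (FlatMod.freeMod X n) :=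
      ((DCoh.tensorBi (X := X)).obj G).mapIso (CurvLib.freeModSucc X n) ≪≫
      (((DCoh.tensorBi (X := X)).obj G).mapBiprod _ _) ≪≫
      biprod.mapIso (KFlatLib.tensSwap (Coh.structureModule X) G) (Iso.refl _) ≪≫
      biprod.mapIso (KFlatLib.tensUnitIso G) (Iso.refl _)
    have h1 := IntMultLib.isCoh_tensor_freeMod G hG n
    rw [(addOn_cl (fun _ : X => True)).iso e (mem_top (IntMultLib.isCoh_tensor_freeMod G hG (n + 1))),
      (addOn_cl (fun _ : X => True)).biprod (mem_top hG) (mem_top h1), cl_tensor_free hG n, succ_nsmul']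

theorem cl_tensor_sub_mem [IsNoetherian X] {r : ℕ} {V : X.Modules} (hV : FlatMod.IsFinLocFreeOfRank r V)
    (O : X.Opens) (e : V.restrict O.ι ≅ FlatMod.freeMod (O : Scheme.{u}) r)
    {T : X → Prop} {G : X.Modules} (hG : P T G) :
    cl (CohB1.tensorMod V G) - r • cl G ∈ lower (fun x => T x ∧ x ∉ O) := by
  have hF' : P T (CohB1.tensorMod G (FlatMod.freeMod X r)) :=
    P.mk (IntMultLib.isCoh_tensor_freeMod G hG.coh r) fun x hx =>
      hG.supp (support_tensor_subset (FlatMod.freeMod X r) G
        ((DevissLib.support_iso (KFlatLib.tensSwap G (FlatMod.freeMod X r))).ge hx))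
  haveI : IsLocallyNoetherian (O : Scheme.{u}) := LocallyOfFiniteType.isLocallyNoetherian O.ι
  haveI := isIso_counit_open O.ι
  let j := O.ι
  let e₁ : (Scheme.Modules.pullback j).obj V ≅ (Scheme.Modules.pullback j).obj (FlatMod.freeMod X r) :=
    ((Scheme.Modules.restrictFunctorIsoPullback j).app V).symm ≪≫ e ≪≫ (KFlatLib.pullFreeIso j r).symm
  let θ₀ : (Scheme.Modules.pullback j).obj (CohB1.tensorMod V G) ≅
      (Scheme.Modules.pullback j).obj (CohB1.tensorMod (FlatMod.freeMod X r) G) :=
    @asIso _ _ _ _ (KFlatLib.pullθ j V G) (KFlatLib.isIso_pullθ _ _ _) ≪≫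
      HilbPolyLib.congrLeft e₁ _ ≪≫
      (@asIso _ _ _ _ (KFlatLib.pullθ j (FlatMod.freeMod X r) G) (KFlatLib.isIso_pullθ _ _ _)).symm
  have h := sub_mem_lower_of_iso j (P_tensor hV hG) hF'
    (θ₀ ≪≫ (Scheme.Modules.pullback j).mapIso (KFlatLib.tensSwap G (FlatMod.freeMod X r)))
  rw [cl_tensor_free hG.coh r] at h
  simpa [j] using! h

end CohGenLib

end
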