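import Groth.Agent.CohGenLib.GenO

/-!
# Flat pullback on `K₀` of coherent modules
-/

set_option autoImplicit false
set_option linter.style.haveILetI false
set_option linter.unusedSectionVars false
set_option maxHeartbeats 1000000

universe u v

open CategoryTheory CategoryTheory.Limits AlgebraicGeometry TopologicalSpace Opposite

noncomputable section

namespace CohGenLib

variable {X Y : Scheme.{u}} [IsNoetherian X] [IsNoetherian Y] (f : X ⟶ Y) [Flat f]

theorem isCoh_pullback_flat {M : Y.Modules} (hM : Coh.IsCoh M) : Coh.IsCoh ((Scheme.Modules.pullback f).obj M) :=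
  haveI := hM.1
  ⟨KFlatLib.isQCoh_pullback f M, ConsLib.isFT_pullback f M hM.2⟩

theorem exists_pullK : ∃ r : SGA6.Kcoh Y →+ SGA6.Kcoh X,
    ∀ M : Y.Modules, Coh.IsCoh M → r (cl M) = cl ((Scheme.Modules.pullback f).obj M) := by
  haveI : PreservesFiniteLimits (Scheme.Modules.pullback f) := preservesFiniteLimits_pullback_flat f
  exact Groth.Agent.KHeartLib.exists_lift_sub (fun M : Y.Modules => Coh.IsCoh M)
    (fun M => cl ((Scheme.Modules.pullback f).obj M)) fun T hT h₁ h₂ h₃ =>
      Groth.Agent.KHeartLib.clSub_add _ _ (hT.map_of_exact (Scheme.Modules.pullback f)) (isCoh_pullback_flat f h₁)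
        (isCoh_pullback_flat f h₂) (isCoh_pullback_flat f h₃)

/-- Pullback of classes along a flat morphism. -/
def pullK : SGA6.Kcoh Y →+ SGA6.Kcoh X := (exists_pullK f).choose

theorem pullK_cl {M : Y.Modules} (hM : Coh.IsCoh M) : pullK f (cl M) = cl ((Scheme.Modules.pullback f).obj M) :=
  (exists_pullK f).choose_spec M hM

theorem kcoh_hom_ext {A : Type v} [AddCommGroup A] {a b : SGA6.Kcoh Y →+ A}
    (h : ∀ M : Y.Modules, Coh.IsCoh M → a (cl M) = b (cl M)) : a = b := by
  refine DFunLike.ext _ _ fun c => ?_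
  obtain ⟨F, G, hF, hG, rfl⟩ := exists_diff c
  rw [map_sub, map_sub, h F hF, h G hG]

theorem cl_iso {F G : X.Modules} (e : F ≅ G) (hF : Coh.IsCoh F) : cl F = cl G :=
  (addOn_cl (fun _ : X => True)).iso e (mem_top hF)

theorem pullK_comp {Z : Scheme.{u}} [IsNoetherian Z] (g : Y ⟶ Z) [Flat g] :
    pullK (f ≫ g) = (pullK f).comp (pullK g) := kcoh_hom_ext fun M hM => by
  rw [AddMonoidHom.comp_apply, pullK_cl g hM, pullK_cl f (isCoh_pullback_flat g hM), pullK_cl (f ≫ g) hM]
  exact cl_iso ((Scheme.Modules.pullbackComp f g).app M).symm (isCoh_pullback_flat _ hM)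

theorem pullK_congr {f' : X ⟶ Y} [Flat f'] (h : f = f') : pullK f = pullK f' := by
  subst h; rfl

omit [Flat f] in
theorem pullK_id : pullK (𝟙 Y) = AddMonoidHom.id _ := kcoh_hom_ext fun M hM => by
  rw [pullK_cl _ hM]
  exact cl_iso ((Scheme.Modules.pullbackId Y).app M) (isCoh_pullback_flat _ hM)

omit [Flat f] in
theorem injective_pullK_of_iso (e : X ≅ Y) : Function.Injective (pullK e.hom) := by
  have h : (pullK e.inv).comp (pullK e.hom) = AddMonoidHom.id _ := by
    rw [← pullK_comp, pullK_congr _ e.inv_hom_id, pullK_id]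
  exact Function.LeftInverse.injective (g := pullK e.inv) fun a => DFunLike.congr_fun h a

theorem surjective_pullK (hfib : ∀ s, GenO (f.fiber s)) : Function.Surjective (pullK f) := by
  have hO : Coh.IsCoh (Coh.structureModule X) := DevissLib.isCoh_structureModule _
  have key : ∀ (T : Closeds Y) (x : X), closure ({f x} : Set Y) = (T : Set Y) →
      cl (Cyc.closureStructureSheaf x) ∈ (pullK f).range := by
    intro T
    induction T using WellFoundedLT.induction with
    | _ T ih =>
    intro x hT
    have hs : Coh.IsCoh (Cyc.closureStructureSheaf (f x)) :=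
      (closure_mem (D := fun _ : Y => True) (fun _ _ _ _ => trivial) trivial).coh
    refine cl_mem_of_fibre f (fun _ : Fin 1 => Coh.structureModule X) (fun _ => hO) (f x) ?_ (pullK f).range
      (fun _ => ?_) (fun y hy hne => ?_) x rfl
    · haveI := isNoetherian_fiber f (f x)
      rw [eq_top_iff]
      rintro c -
      obtain ⟨k, rfl⟩ := hfib (f x) c
      refine zsmul_mem ?_ k
      exact AddSubgroup.subset_closure ⟨0, cl_pullUnit _⟩
    · refine ⟨cl (Cyc.closureStructureSheaf (f x)), (pullK_cl f hs).trans ?_⟩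
      exact (cl_iso (KFlatLib.tensUnitIso _)
        (QCohLib.isCoh_of_iso (KFlatLib.tensUnitIso _).symm (isCoh_pullback_flat f hs))).symm
    · refine ih ⟨_, isClosed_closure⟩ (lt_of_le_of_ne ?_ fun e => hne ?_) y rfl
      · exact fun v hv => hT.le (closure_minimal (Set.singleton_subset_iff.2 hy) isClosed_closure hv)
      · have h1 : f x ∈ closure ({f y} : Set Y) := by
          rw [show closure ({f y} : Set Y) = (T : Set Y) from congrArg SetLike.coe e, ← hT]
          exact subset_closure rfl
        exact ((specializes_iff_mem_closure.2 hy).antisymm (specializes_iff_mem_closure.2 h1)).eq.symm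
  intro a
  obtain ⟨F, G, hF, hG, rfl⟩ := exists_diff a
  refine (sub_mem ?_ ?_ : cl F - cl G ∈ (pullK f).range)
  · refine (AddSubgroup.closure_le _).2 ?_ (cl_mem_closures hF)
    rintro _ ⟨x, -, rfl⟩
    exact key ⟨_, isClosed_closure⟩ x rfl
  · refine (AddSubgroup.closure_le _).2 ?_ (cl_mem_closures hG)
    rintro _ ⟨x, -, rfl⟩
    exact key ⟨_, isClosed_closure⟩ x rfl

end CohGenLib

end
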