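import Groth.Agent.CycK0Lib.Cycles
import Groth.Agent.KHeartLib.Classes
import Groth.Prelude.Def_SGA6

/-!
# The Grothendieck group of coherent modules modulo a level
-/

set_option autoImplicit false
set_option linter.style.haveILetI false
set_option linter.unusedSectionVars false

universe u v

open CategoryTheory CategoryTheory.Limits AlgebraicGeometry TopologicalSpace Opposite

noncomputable section

namespace CohGenLib

open scoped ZeroObject
open CycK0Lib (P AddOn Levels lenFun)
open DevissLib (St)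

variable {X : Scheme.{u}}

/-- The class in `K₀(Coh X)`. -/
abbrev cl (F : X.Modules) : SGA6.Kcoh X := KZero.clSub (fun M : X.Modules => Coh.IsCoh M) F

theorem addOn_cl (D : X → Prop) : AddOn D (cl (X := X)) :=
  ⟨fun S hS h₁ h₂ h₃ => Groth.Agent.KHeartLib.clSub_add _ S hS h₁.1 h₂.1 h₃.1⟩

theorem addOn_comp {A : Type v} [AddCommGroup A] {D : X → Prop} {φ : X.Modules → A} (h : AddOn D φ)
    {B : Type*} [AddCommGroup B] (g : A →+ B) : AddOn D fun F => g (φ F) :=
  ⟨fun S hS h₁ h₂ h₃ => by rw [h.add S hS h₁ h₂ h₃, map_add]⟩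

/-- Coherent modules form the top level. -/
theorem mem_top {F : X.Modules} (hF : Coh.IsCoh F) : P (fun _ : X => True) F := P.mk hF fun _ _ => trivial

/-- Every class is a difference of two classes of coherent modules. -/
theorem exists_diff [IsLocallyNoetherian X] (a : SGA6.Kcoh X) :
    ∃ F G : X.Modules, Coh.IsCoh F ∧ Coh.IsCoh G ∧ a = cl F - cl G := by
  have h0 : Coh.IsCoh (0 : X.Modules) := DevissLib.isCoh_of_isZero (Limits.isZero_zero _)
  have hz : cl (0 : X.Modules) = 0 := (addOn_cl (fun _ : X => True)).zero (Limits.isZero_zero _)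
  have ha : a ∈ AddSubgroup.closure {x | ∃ F : X.Modules, Coh.IsCoh F ∧ cl F = x} := by
    rw [show AddSubgroup.closure {x | ∃ F : X.Modules, Coh.IsCoh F ∧ cl F = x} = ⊤ from
      Groth.Agent.KHeartLib.clSub_closure_eq_top _]
    trivial
  induction ha using AddSubgroup.closure_induction with
  | mem x hx => obtain ⟨F, hF, rfl⟩ := hx; exact ⟨F, 0, hF, h0, by rw [hz, sub_zero]⟩
  | zero => exact ⟨0, 0, h0, h0, by rw [sub_self]⟩
  | add a b _ _ ha hb =>
    obtain ⟨F, G, hF, hG, rfl⟩ := ha
    obtain ⟨F', G', hF', hG', rfl⟩ := hb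
    refine ⟨F ⊞ F', G ⊞ G', DevissLib.isCoh_biprod hF hF', DevissLib.isCoh_biprod hG hG', ?_⟩
    rw [(addOn_cl (fun _ : X => True)).biprod (mem_top hF) (mem_top hF'),
      (addOn_cl (fun _ : X => True)).biprod (mem_top hG) (mem_top hG')]
    abel
  | neg a _ ha => obtain ⟨F, G, hF, hG, rfl⟩ := ha; exact ⟨G, F, hG, hF, by abel⟩

/-- The subgroup generated by the classes in a level. -/
def lower (D' : X → Prop) : AddSubgroup (SGA6.Kcoh X) :=
  AddSubgroup.closure {c | ∃ G : X.Modules, P D' G ∧ c = cl G}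

theorem cl_mem_lower {D' : X → Prop} {G : X.Modules} (h : P D' G) : cl G ∈ lower D' :=
  AddSubgroup.subset_closure ⟨G, h, rfl⟩

section Levels

variable [AlgebraicGeometry.IsNoetherian X] {D D' : X → Prop} (L : Levels D D')

include L in
theorem finite_top {F : X.Modules} (hF : P D F) : {x : X | x ∈ CohB1.support F ∧ ¬ D' x}.Finite := by
  haveI : Coh.IsQCoh F := hF.1.1
  refine (AssPointLib.finite_assPoints hF.1.2 ⊤ isCompact_univ).subset fun x hx => ⟨trivial, ?_⟩
  exact AssPointLib.weak_of_maximal hx.1 (L.top_max hF hx.2)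

omit [AlgebraicGeometry.IsNoetherian X] in
theorem closure_mem [IsLocallyNoetherian X] (hsp : ∀ x y, D x → x ⤳ y → D y) {ζ : X} (hζ : D ζ) :
    P D (Cyc.closureStructureSheaf ζ) :=
  P.mk (QCohLib.isCoh_push_finite _ _ (DevissLib.isCoh_structureModule _)) fun x hx =>
    hsp ζ x hζ (specializes_iff_mem_closure.2 (CycK0Lib.closure_support ζ hx))

open Classical in
include L in
theorem lenFun_closure {ζ : X} (hζ : D ζ) (hζ' : ¬ D' ζ) {x : X} (hx : ¬ D' x) :
    lenFun D' (Cyc.closureStructureSheaf ζ) x = if x = ζ then 1 else 0 := by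
  unfold lenFun
  rw [if_neg hx]
  split_ifs with e
  · subst e
    rw [CycK0Lib.closure_length]
    rfl
  · rw [CycK0Lib.length_stalk_eq_zero fun h =>
      e (L.max x ζ hx hζ (specializes_iff_mem_closure.2 (CycK0Lib.closure_support ζ h))).symm]
    rfl

open Classical in
include L in
/-- A finite sum of structure modules of closures of top points. -/
theorem exists_model (hsp : ∀ x y, D x → x ⤳ y → D y) (s : Multiset X) (hs : ∀ x ∈ s, D x ∧ ¬ D' x) :
    ∃ G : X.Modules, P D G ∧ (∀ x, ¬ D' x → lenFun D' G x = s.count x) ∧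
      cl G = (s.map fun x => cl (Cyc.closureStructureSheaf x)).sum := by
  induction s using Multiset.induction_on with
  | empty =>
    refine ⟨0, CycK0Lib.P_zero (Limits.isZero_zero _), fun x _ => ?_, ?_⟩
    · rw [L.addOn_lenFun.zero (Limits.isZero_zero _)]; simp
    · rw [(addOn_cl D).zero (Limits.isZero_zero _)]; simp
  | cons a s ih =>
    obtain ⟨G, hG, hl, hc⟩ := ih fun x hx => hs x (Multiset.mem_cons_of_mem hx)
    obtain ⟨ha, ha'⟩ := hs a (Multiset.mem_cons_self a s)
    have hA := closure_mem hsp ha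
    refine ⟨Cyc.closureStructureSheaf a ⊞ G, hA.biprod hG, fun x hx => ?_, ?_⟩
    · rw [L.addOn_lenFun.biprod hA hG, Pi.add_apply, hl x hx, lenFun_closure L ha ha' hx, Multiset.count_cons]
      push_cast
      split_ifs <;> ring
    · rw [(addOn_cl D).biprod hA hG, hc, Multiset.map_cons, Multiset.sum_cons]

include L in
/-- Modulo the lower level, a module is the sum of the closures of its top points. -/
theorem sub_sum_mem (hsp : ∀ x y, D x → x ⤳ y → D y) {F : X.Modules} (hF : P D F) (s : Finset X)
    (hs : ∀ x, x ∈ s → ¬ D' x ∧ D x) (hs' : ∀ x, x ∈ CohB1.support F → ¬ D' x → x ∈ s) :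
    cl F - ∑ x ∈ s, (Module.length (X.presheaf.stalk x) (F.presheaf.stalk x)).toNat •
      cl (Cyc.closureStructureSheaf x) ∈ lower D' := by
  classical
  let n : X → ℕ := fun x => (Module.length (X.presheaf.stalk x) ((St x).obj F)).toNat
  let M : Multiset X := ∑ x ∈ s, n x • ({x} : Multiset X)
  have hM : ∀ x ∈ M, D x ∧ ¬ D' x := fun x hx => by
    obtain ⟨a, ha, hxa⟩ := Multiset.mem_sum.1 hx
    obtain rfl := Multiset.mem_singleton.1 (Multiset.mem_of_mem_nsmul hxa)
    exact ⟨(hs x ha).2, (hs x ha).1⟩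
  obtain ⟨G, hG, hl, hc⟩ := exists_model L hsp M hM
  have hlen : lenFun D' F = lenFun D' G := funext fun x => by
    by_cases hx : D' x
    · simp [lenFun, if_pos hx]
    rw [hl x hx]
    have hcount : M.count x = if x ∈ s then n x else 0 := by
      simp only [M, Multiset.count_sum', Multiset.count_nsmul, Multiset.count_singleton]
      simp
    rw [hcount]
    unfold lenFun
    rw [if_neg hx]
    split_ifs with h
    · rfl
    · rw [CycK0Lib.length_stalk_eq_zero fun h' => h (hs' x h' hx)]
      rfl
  let q := QuotientAddGroup.mk' (lower D')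
  have hq := L.eq_of_lenFun (φ := fun F => q (cl F)) (addOn_comp (addOn_cl D) q)
    (fun H hH => (QuotientAddGroup.eq_zero_iff _).2 (cl_mem_lower hH)) hF hG hlen
  have hmem : cl F - cl G ∈ lower D' := by
    rw [← QuotientAddGroup.eq_zero_iff, QuotientAddGroup.mk_sub, sub_eq_zero]
    exact hq
  have hG' : cl G = ∑ x ∈ s, n x • cl (Cyc.closureStructureSheaf x) := by
    rw [hc]
    let f : Multiset X →+ SGA6.Kcoh X :=
      { toFun := fun M => (M.map fun x => cl (Cyc.closureStructureSheaf x)).sum
        map_zero' := by simp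
        map_add' := fun a b => by simp }
    show f (∑ x ∈ s, n x • ({x} : Multiset X)) = _
    rw [map_sum]
    refine Finset.sum_congr rfl fun x _ => ?_
    rw [map_nsmul]
    simp [f]
  rw [hG'] at hmem
  exact hmem

end Levels

end CohGenLib

end
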