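import Groth.Agent.CohGenLib.Basic
import Groth.Agent.FibDimLib.FibreJumps

/-!
# The dimension filtration of a Noetherian scheme
-/

set_option autoImplicit false
set_option linter.style.haveILetI false

universe u

open CategoryTheory CategoryTheory.Limits AlgebraicGeometry TopologicalSpace Opposite Topology

noncomputable section

namespace CohGenLib

open CycK0Lib (P Levels)

variable {X : Scheme.{u}}

/-- The dimension of the closure of a point. -/
abbrev cdim (x : X) : WithBot ℕ∞ := topologicalKrullDim ↥(closure ({x} : Set X))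

theorem cdim_mono {x y : X} (h : x ⤳ y) : cdim y ≤ cdim x :=
  FibDimLib.topologicalKrullDim_closure_le isClosed_closure h.mem_closure

theorem zero_le_cdim (x : X) : 0 ≤ cdim x := by
  haveI : Nonempty (IrreducibleCloseds ↥(closure ({x} : Set X))) :=
    ⟨⟨closure {(⟨x, subset_closure rfl⟩ : ↥(closure ({x} : Set X)))}, isIrreducible_singleton.closure, isClosed_closure⟩⟩
  exact Order.krullDim_nonneg

theorem succ_le_cdim {x y : X} (h : y ⤳ x) (hne : y ≠ x) {n : ℕ} (hn : (n : WithBot ℕ∞) ≤ cdim x) :
    ((n + 1 : ℕ) : WithBot ℕ∞) ≤ cdim y := by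
  have hsub : closure ({x} : Set X) ⊆ closure {y} := closure_minimal
    (Set.singleton_subset_iff.2 h.mem_closure) isClosed_closure
  let ι : ↥(closure ({x} : Set X)) → ↥(closure ({y} : Set X)) := Set.inclusion hsub
  have hι : IsClosedEmbedding ι := IsClosedEmbedding.inclusion hsub
    (isClosed_closure.preimage continuous_subtype_val)
  let top : IrreducibleCloseds ↥(closure ({y} : Set X)) :=
    ⟨closure {(⟨y, subset_closure rfl⟩ : ↥(closure ({y} : Set X)))}, isIrreducible_singleton.closure, isClosed_closure⟩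
  have htop : ∀ z : ↥(closure ({y} : Set X)), z ∈ (top : Set ↥(closure ({y} : Set X))) := fun z => by
    show z ∈ closure _
    rw [← specializes_iff_mem_closure, ← Topology.IsInducing.subtypeVal.specializes_iff]
    exact specializes_iff_mem_closure.2 z.2
  obtain ⟨p, hp⟩ := Order.le_krullDim_iff.1 hn
  have hlt : IrreducibleCloseds.map ι hι.continuous p.last < top := by
    refine lt_of_le_of_ne (fun z _ => htop z) fun e => hne ?_
    have hy : (⟨y, subset_closure rfl⟩ : ↥(closure ({y} : Set X))) ∈
        (IrreducibleCloseds.map ι hι.continuous p.last : Set ↥(closure ({y} : Set X))) := by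
      rw [e]
      exact htop _
    rw [IrreducibleCloseds.coe_map, (hι.isClosedMap _ p.last.isClosed).closure_eq] at hy
    obtain ⟨a, -, ha⟩ := hy
    have hy' : a.1 = y := congrArg Subtype.val ha
    exact (h.antisymm (specializes_iff_mem_closure.2 (hy' ▸ a.2))).eq
  refine Order.le_krullDim_iff.2
    ⟨(p.map _ (IrreducibleCloseds.map_strictMono_of_isInducing hι.isInducing)).snoc top ?_, ?_⟩
  · simpa using! hlt
  · simp [hp]

variable (X) in
/-- Points with closures of dimension at most `n`. -/
def levelLe (n : ℕ) : X → Prop := fun x => cdim x ≤ (n : WithBot ℕ∞)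

variable (X) in
/-- Points with closures of dimension less than `n`. -/
def levelLt (n : ℕ) : X → Prop := fun x => cdim x < (n : WithBot ℕ∞)

theorem levels (n : ℕ) : Levels (levelLe X n) (levelLt X n) where
  le _ h := le_of_lt h
  max x y hx hy h := by
    by_contra hne
    have h1 := (succ_le_cdim h hne (not_lt.1 hx)).trans hy
    exact absurd h1 (by exact_mod_cast Nat.not_succ_le_self n)

theorem levelLe_spec (n : ℕ) (x y : X) (h : levelLe X n x) (hxy : x ⤳ y) : levelLe X n y :=
  (cdim_mono hxy).trans h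

variable [IsNoetherian X]

theorem isClosed_supp {F : X.Modules} (hF : Coh.IsCoh F) : IsClosed (CohB1.support F) :=
  haveI := hF.1
  QCohLib.isClosed_support F hF.2

theorem cdim_le_support {F : X.Modules} (hF : Coh.IsCoh F) {x : X} (hx : x ∈ CohB1.support F) :
    cdim x ≤ topologicalKrullDim ↥(CohB1.support F) :=
  FibDimLib.topologicalKrullDim_closure_le (isClosed_supp hF) hx

theorem exists_cdim_eq {F : X.Modules} (hF : Coh.IsCoh F) (hne : (CohB1.support F).Nonempty) :
    ∃ x ∈ CohB1.support F, cdim x = topologicalKrullDim ↥(CohB1.support F) := by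
  have hc := isClosed_supp hF
  haveI : Nonempty ↥(CohB1.support F) := hne.to_subtype
  haveI : QuasiSober ↥(CohB1.support F) := hc.isClosedEmbedding_subtypeVal.quasiSober
  obtain ⟨z, -, hz⟩ := FibDimLib.exists_generic_closure_dim (A := ↥(CohB1.support F))
  refine ⟨z.1, z.2, le_antisymm (cdim_le_support hF z.2) (hz.le.trans ?_)⟩
  refine IsInducing.topologicalKrullDim_le (f := fun w => (⟨w.1.1, ?_⟩ : ↥(closure ({z.1} : Set X)))) ?_
  · have := w.2
    rw [← specializes_iff_mem_closure, ← Topology.IsInducing.subtypeVal.specializes_iff] at this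
    exact this.mem_closure
  · exact (IsInducing.subtypeVal.comp IsInducing.subtypeVal).codRestrict _

theorem P_le_iff {F : X.Modules} (hF : Coh.IsCoh F) (n : ℕ) :
    P (levelLe X n) F ↔ topologicalKrullDim ↥(CohB1.support F) ≤ (n : WithBot ℕ∞) := by
  refine ⟨fun h => ?_, fun h => P.mk hF fun x hx => (cdim_le_support hF hx).trans h⟩
  rcases (CohB1.support F).eq_empty_or_nonempty with he | hne
  · haveI : IsEmpty ↥(CohB1.support F) := Set.isEmpty_coe_sort.2 he
    haveI : IsEmpty (IrreducibleCloseds ↥(CohB1.support F)) :=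
      ⟨fun T => isEmptyElim T.isIrreducible.nonempty.some⟩
    simp [topologicalKrullDim, Order.krullDim_eq_bot]
  · obtain ⟨x, hx, e⟩ := exists_cdim_eq hF hne
    exact e ▸ h.supp hx

theorem P_lt_iff {F : X.Modules} (hF : Coh.IsCoh F) (n : ℕ) :
    P (levelLt X n) F ↔ topologicalKrullDim ↥(CohB1.support F) < (n : WithBot ℕ∞) := by
  refine ⟨fun h => ?_, fun h => P.mk hF fun x hx => (cdim_le_support hF hx).trans_lt h⟩
  rcases (CohB1.support F).eq_empty_or_nonempty with he | hne
  · haveI : IsEmpty ↥(CohB1.support F) := Set.isEmpty_coe_sort.2 he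
    haveI : IsEmpty (IrreducibleCloseds ↥(CohB1.support F)) :=
      ⟨fun T => isEmptyElim T.isIrreducible.nonempty.some⟩
    rw [show topologicalKrullDim ↥(CohB1.support F) = ⊥ from Order.krullDim_eq_bot]
    exact WithBot.bot_lt_coe _
  · obtain ⟨x, hx, e⟩ := exists_cdim_eq hF hne
    exact e ▸ h.supp hx

theorem lower_lt (n : ℕ) : lower (levelLt X n) = AddSubgroup.closure {c : SGA6.Kcoh X |
    ∃ G : X.Modules, Coh.IsCoh G ∧ topologicalKrullDim ↥(CohB1.support G) < n ∧ c = cl G} :=
  congrArg AddSubgroup.closure (Set.ext fun c =>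
    ⟨fun ⟨G, hG, e⟩ => ⟨G, hG.coh, (P_lt_iff hG.coh n).1 hG, e⟩,
      fun ⟨G, hG, h, e⟩ => ⟨G, (P_lt_iff hG n).2 h, e⟩⟩)

end CohGenLib

end
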