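import Mathlib.AlgebraicGeometry.Fiber
import Mathlib.AlgebraicGeometry.Noetherian
import Mathlib.RingTheory.EssentialFiniteness

/-!
# Fibres of morphisms of locally Noetherian schemes are locally Noetherian
-/

set_option autoImplicit false
set_option linter.style.haveILetI false

universe u

open CategoryTheory CategoryTheory.Limits AlgebraicGeometry TopologicalSpace
open scoped TensorProduct

noncomputable section

namespace CohGenLib

theorem isNoetherianRing_of_essFiniteType (A B : Type u) [CommRing A] [CommRing B] [Algebra A B] [IsNoetherianRing A]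
    [Algebra.EssFiniteType A B] : IsNoetherianRing B :=
  haveI : IsNoetherianRing (Algebra.EssFiniteType.subalgebra A B) := Algebra.FiniteType.isNoetherianRing A _
  IsLocalization.isNoetherianRing (Algebra.EssFiniteType.submonoid A B) B inferInstance

theorem isLocallyNoetherian_pullback_specResidueField {X Y : Scheme.{u}} [IsLocallyNoetherian X] (f : X ⟶ Y) (s : Y) :
    IsLocallyNoetherian (f.fiber s) := by
  obtain ⟨_, ⟨V, hV, rfl⟩, hsV, -⟩ := Y.isBasis_affineOpens.exists_subset_of_mem_open (Set.mem_univ s) isOpen_univ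
  have key : ∀ z : f.fiber s, ∃ O : (f.fiber s).Opens, z ∈ O ∧ IsLocallyNoetherian (O : Scheme.{u}) := by
    intro z
    have hfz : f (f.fiberι s z) ∈ V := by
      have hz : f.fiberι s z ∈ Set.range (f.fiberι s) := ⟨z, rfl⟩
      rw [f.range_fiberι] at hz
      rw [show f (f.fiberι s z) = s from hz]
      exact hsV
    obtain ⟨_, ⟨W, hW, rfl⟩, hzW, hWV⟩ :=
      X.isBasis_affineOpens.exists_subset_of_mem_open (show f.fiberι s z ∈ f ⁻¹ᵁ V from hfz) (f ⁻¹ᵁ V).isOpen
    refine ⟨f.fiberι s ⁻¹ᵁ W, hzW, ?_⟩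
    haveI : IsNoetherianRing Γ(X, W) := IsLocallyNoetherian.component_noetherian ⟨W, hW⟩
    let φ := f.appLE V W hWV
    let ψ : Γ(Y, V) ⟶ Y.residueField s := Y.evaluation V s hsV
    letI : Algebra Γ(Y, V) Γ(X, W) := φ.hom.toAlgebra
    letI : Algebra Γ(Y, V) (Y.residueField s) := ψ.hom.toAlgebra
    haveI : Algebra.EssFiniteType Γ(Y, V) (Y.residueField s) := by
      letI := Y.presheaf.algebra_section_stalk ⟨s, hsV⟩
      haveI := hV.isLocalization_stalk ⟨s, hsV⟩
      haveI : Algebra.EssFiniteType Γ(Y, V) (Y.presheaf.stalk s) :=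
        Algebra.EssFiniteType.of_isLocalization _ (hV.primeIdealOf ⟨s, hsV⟩).asIdeal.primeCompl
      letI : Algebra (Y.presheaf.stalk s) (Y.residueField s) := (Y.residue s).hom.toAlgebra
      haveI : IsScalarTower Γ(Y, V) (Y.presheaf.stalk s) (Y.residueField s) := IsScalarTower.of_algebraMap_eq fun _ => rfl
      haveI : Algebra.EssFiniteType (Y.presheaf.stalk s) (Y.residueField s) :=
        haveI : Algebra.FiniteType (Y.presheaf.stalk s) (Y.residueField s) :=
          RingHom.FiniteType.of_surjective (Y.residue s).hom (Y.residue_surjective s)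
        inferInstance
      exact Algebra.EssFiniteType.comp Γ(Y, V) (Y.presheaf.stalk s) (Y.residueField s)
    have hφ : Spec.map φ ≫ hV.fromSpec = hW.fromSpec ≫ f := IsAffineOpen.SpecMap_appLE_fromSpec f hV hW hWV
    have hψ : Spec.map ψ ≫ hV.fromSpec = Y.fromSpecResidueField s := by
      show Spec.map (Y.presheaf.germ V s hsV ≫ Y.residue s) ≫ hV.fromSpec = Spec.map (Y.residue s) ≫ Y.fromSpecStalk s
      rw [Spec.map_comp, Category.assoc]
      exact congrArg (Spec.map (Y.residue s) ≫ ·) (hV.fromSpecStalk_eq_fromSpecStalk hsV)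
    have h1 : IsPullback (f.fiberι s ∣_ W) (f.fiberι s ⁻¹ᵁ W).ι (Scheme.Opens.ι (X := X) W) (f.fiberι s) := isPullback_morphismRestrict _ _
    have h2 : IsPullback (f.fiberι s) (f.fiberToSpecResidueField s) f (Y.fromSpecResidueField s) :=
      IsPullback.of_hasPullback _ _
    have h3 := h1.paste_vert h2
    have h4 : IsPullback ((f.fiberι s ∣_ W) ≫ hW.isoSpec.hom) ((f.fiberι s ⁻¹ᵁ W).ι ≫ f.fiberToSpecResidueField s)
        (Spec.map φ ≫ hV.fromSpec) (Spec.map ψ ≫ hV.fromSpec) := by
      refine h3.of_iso (Iso.refl _) hW.isoSpec (Iso.refl _) (Iso.refl _) (by simp) (by simp) ?_ (by simp [hψ])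
      simp [hφ, IsAffineOpen.isoSpec_hom_fromSpec_assoc]
    have h5 : IsPullback ((f.fiberι s ∣_ W) ≫ hW.isoSpec.hom) ((f.fiberι s ⁻¹ᵁ W).ι ≫ f.fiberToSpecResidueField s)
        (Spec.map φ) (Spec.map ψ) :=
      ⟨⟨(cancel_mono hV.fromSpec).1 (by simpa using h4.w)⟩,
        ⟨PullbackCone.isLimitOfFactors (Spec.map φ ≫ hV.fromSpec) (Spec.map ψ ≫ hV.fromSpec) hV.fromSpec
          (Spec.map φ) (Spec.map ψ) rfl rfl _ h4.isLimit⟩⟩
    let e := h5.isoPullback ≪≫ pullbackSpecIso Γ(Y, V) Γ(X, W) (Y.residueField s)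
    haveI : IsNoetherianRing (Γ(X, W) ⊗[Γ(Y, V)] Y.residueField s) :=
      isNoetherianRing_of_essFiniteType Γ(X, W) _
    exact isLocallyNoetherian_of_isOpenImmersion e.hom
  choose O hO hN using key
  rw [isLocallyNoetherian_iff_openCover ((f.fiber s).openCoverOfIsOpenCover O
    (eq_top_iff.2 fun z _ => Opens.mem_iSup.2 ⟨z, hO z⟩))]
  exact fun i => hN i

theorem isNoetherian_fiber {X Y : Scheme.{u}} [IsNoetherian X] (f : X ⟶ Y) (s : Y) :
    IsNoetherian (f.fiber s) :=
  haveI := isLocallyNoetherian_pullback_specResidueField f s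
  { toCompactSpace := ⟨(f.fiberι s).isEmbedding.isInducing.isCompact_iff.2
      (TopologicalSpace.NoetherianSpace.isCompact _)⟩ }

end CohGenLib

end
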