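import Groth.Agent.CohGenLib.Basic
import Groth.Agent.QCohLib.AffineFinite
import Groth.Agent.FibDimLib.FibreJumps

/-!
# Classes of closures of points generate
-/

set_option autoImplicit false
set_option linter.style.haveILetI false

universe u

open CategoryTheory CategoryTheory.Limits AlgebraicGeometry TopologicalSpace Opposite

noncomputable section

namespace CohGenLib

open CycK0Lib (P Levels)

variable {X : Scheme.{u}} [IsNoetherian X]

/-- The classes of the closures of the points in a set. -/
def closures (T : Set X) : AddSubgroup (SGA6.Kcoh X) :=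
  AddSubgroup.closure {c | ∃ y ∈ T, c = cl (Cyc.closureStructureSheaf y)}

/-- A coherent module is in the subgroup generated by the closures of the points of its support. -/
theorem cl_mem_closures {F : X.Modules} (hF : Coh.IsCoh F) : cl F ∈ closures (CohB1.support F) := by
  classical
  suffices key : ∀ (T : Closeds X) (F : X.Modules), Coh.IsCoh F → CohB1.support F = (T : Set X) →
      cl F ∈ closures (T : Set X) from
    key ⟨_, haveI := hF.1; QCohLib.isClosed_support F hF.2⟩ F hF rfl
  intro T
  induction T using WellFoundedLT.induction with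
  | _ T ih =>
  intro F hF hT
  haveI := hF.1
  let D' : X → Prop := fun x => x ∈ (T : Set X) ∧ ∃ y ∈ (T : Set X), y ⤳ x ∧ y ≠ x
  have L : Levels (fun x => x ∈ (T : Set X)) D' := ⟨fun _ h => h.1, fun x y hx hy h => by
    by_contra hne
    exact hx ⟨h.mem_closed T.isClosed hy, y, hy, h, hne⟩⟩
  have hP : P (fun x => x ∈ (T : Set X)) F := P.mk hF fun x hx => hT ▸ hx
  have hfin := finite_top L hP
  have key := sub_sum_mem L (fun x y hx h => h.mem_closed T.isClosed hx) hP hfin.toFinset
    (fun x hx => ⟨(hfin.mem_toFinset.1 hx).2, hP.supp (hfin.mem_toFinset.1 hx).1⟩)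
    (fun x hx hx' => hfin.mem_toFinset.2 ⟨hx, hx'⟩)
  have hsum : ∑ x ∈ hfin.toFinset, (Module.length (X.presheaf.stalk x) (F.presheaf.stalk x)).toNat •
      cl (Cyc.closureStructureSheaf x) ∈ closures (T : Set X) := by
    exact sum_mem fun x hx => nsmul_mem (show cl (Cyc.closureStructureSheaf x) ∈ closures (T : Set X) from
      AddSubgroup.subset_closure ⟨x, hP.supp (hfin.mem_toFinset.1 hx).1, rfl⟩) _
  have hlow : lower D' ≤ closures (T : Set X) := by
    rcases (T : Set X).eq_empty_or_nonempty with hem | hne
    · refine (AddSubgroup.closure_le _).2 ?_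
      rintro _ ⟨H, hH, rfl⟩
      rw [SetLike.mem_coe, show cl H = 0 from (addOn_cl (fun _ : X => True)).zero
        (DevissLib.isZero_of_support_empty (Set.eq_empty_iff_forall_notMem.2 fun x hx =>
          (Set.eq_empty_iff_forall_notMem.1 hem) x (hH.supp hx).1))]
      exact zero_mem _
    · obtain ⟨z, hzT, hz⟩ : ∃ z ∈ (T : Set X), ¬ D' z := by
        haveI : Nonempty ↥(T : Set X) := hne.to_subtype
        haveI : QuasiSober ↥(T : Set X) := T.isClosed.isClosedEmbedding_subtypeVal.quasiSober
        obtain ⟨z, hz, -⟩ := FibDimLib.exists_generic_closure_dim (A := ↥(T : Set X))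
        refine ⟨z.1, z.2, fun ⟨_, y, hy, hyz, hyne⟩ => hyne ?_⟩
        have hsp : (⟨y, hy⟩ : ↥(T : Set X)) ⤳ z := Topology.IsInducing.subtypeVal.specializes_iff.1 hyz
        have he := hz.2 (isIrreducible_singleton (x := (⟨y, hy⟩ : ↥(T : Set X)))).closure
          (closure_minimal (Set.singleton_subset_iff.2 hsp.mem_closure) isClosed_closure)
        have hzy : z ⤳ ⟨y, hy⟩ := specializes_iff_mem_closure.2 (he (subset_closure rfl))
        exact congrArg Subtype.val (hsp.antisymm hzy).eq
      refine (AddSubgroup.closure_le _).2 ?_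
      rintro _ ⟨H, hH, rfl⟩
      haveI := hH.1.1
      let TH : Closeds X := ⟨_, QCohLib.isClosed_support H hH.1.2⟩
      have hle : TH ≤ T := fun x hx => (hH.supp hx).1
      have hlt : TH < T := lt_of_le_of_ne hle fun e => hz (hH.supp (e ▸ hzT : z ∈ (TH : Set X)))
      exact AddSubgroup.closure_mono (by rintro c ⟨y, hy, e⟩; exact ⟨y, hle hy, e⟩) (ih TH hlt H hH.1 rfl)
  have h := add_mem (hlow key) hsum
  rwa [sub_add_cancel] at h

end CohGenLib

end
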