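import Groth.Agent.CohGenLib.Pro
import Groth.Agent.CohGenLib.FibreNoeth
import Groth.Agent.CohGenLib.Gen
import Groth.Agent.CycKSuppLib.Main
import Groth.Agent.ProjClosedImmLib.Stalk
import Groth.Agent.KFlatLib.PerfectPull
import Groth.Agent.VBResLib.Euler
import Groth.Agent.AlgSpLib.ReducedStalk
import Groth.Agent.S0017

/-!
# Generators of `K₀` of the total space from generators on the fibres
-/

set_option autoImplicit false
set_option linter.style.haveILetI false
set_option linter.unusedSectionVars false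
set_option maxHeartbeats 1000000

universe u

open CategoryTheory CategoryTheory.Limits AlgebraicGeometry TopologicalSpace Opposite

noncomputable section

namespace CohGenLib

open CycK0Lib (P)

/-- The generic point of an integral closed subscheme, as a morphism from the residue field. -/
theorem exists_generic_lift {Z S : Scheme.{u}} (i : Z ⟶ S) [IsClosedImmersion i] [IsIntegral Z] (η : Z)
    (hgen : η = genericPoint Z) {s : S} (hη : i η = s) :
    ∃ e : Spec (S.residueField s) ⟶ Z,
      e ≫ i = S.fromSpecResidueField s ∧ Flat e ∧ IsPreimmersion e ∧ QuasiCompact e ∧ QuasiSeparated e := by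
  subst hη
  haveI : IsIso (i.residueFieldMap η) := (ConcreteCategory.isIso_iff_bijective _).2 ⟨RingHom.injective _, fun b => by
    obtain ⟨c, rfl⟩ := Z.residue_surjective η b
    obtain ⟨d, rfl⟩ := i.stalkMap_surjective η c
    exact ⟨S.residue (i η) d, ConcreteCategory.congr_hom (Scheme.residue_residueFieldMap i η) d⟩⟩
  haveI : Flat (Z.fromSpecStalk η) := AlgSpLib.flat_fromSpecStalk η
  haveI : IsIso (Z.residue η) := by
    subst hgen
    letI : Field (Z.presheaf.stalk (genericPoint Z)) := inferInstanceAs (Field Z.functionField)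
    exact (ConcreteCategory.isIso_iff_bijective _).2 ⟨RingHom.injective _, Z.residue_surjective _⟩
  refine ⟨Spec.map (inv (i.residueFieldMap η)) ≫ Z.fromSpecResidueField η, ?_, ?_, inferInstance, inferInstance, inferInstance⟩
  · rw [Category.assoc, ← Scheme.Hom.SpecMap_residueFieldMap_fromSpecResidueField, ← Spec.map_comp_assoc, IsIso.hom_inv_id,
      Spec.map_id, Category.id_comp]
  · show Flat (Spec.map (inv (i.residueFieldMap η)) ≫ Spec.map (Z.residue η) ≫ Z.fromSpecStalk η)
    infer_instance

/-- Tensoring with the pull-back of a closed subscheme is restriction to its preimage. -/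
theorem nonempty_tensor_pull_iso {X S W Z : Scheme.{u}} (f : X ⟶ S) (i : Z ⟶ S) [IsClosedImmersion i] (i' : W ⟶ X)
    [IsClosedImmersion i'] (f' : W ⟶ Z) (hsq : IsPullback i' f' f i) (E : X.Modules) :
    Nonempty (CohB1.tensorMod E ((Scheme.Modules.pullback f).obj ((Coh.push i).obj (Coh.structureModule Z))) ≅
      (Coh.push i').obj ((Scheme.Modules.pullback i').obj E)) := by
  haveI : Coh.IsQCoh (Coh.structureModule Z) := QCohLib.isQCoh_unit
  obtain ⟨ebc⟩ := Groth.Agent.S0017.result i f f' i' hsq.flip (Coh.structureModule Z)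
  let e₁ : (Scheme.Modules.pullback f).obj ((Coh.push i).obj (Coh.structureModule Z)) ≅
      (Coh.push i').obj (Coh.structureModule W) :=
    ebc ≪≫ (Coh.push i').mapIso (KFlatLib.pullUnitIso f')
  let e₂ : CohB1.tensorMod ((Coh.push i').obj (Coh.structureModule W)) E ≅
      (Coh.push i').obj (CohB1.tensorMod (Coh.structureModule W) ((Scheme.Modules.pullback i').obj E)) :=
    @asIso _ _ _ _ (ProjClosedImmLib.projR i' (Coh.structureModule W) E) (ProjClosedImmLib.isIso_projR i' _ _)
  exact ⟨((DCoh.tensorBi (X := X)).obj E).mapIso e₁ ≪≫ (KFlatLib.tensSwap E _).symm ≪≫ e₂ ≪≫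
    (Coh.push i').mapIso (KFlatLib.tensUnitIso ((Scheme.Modules.pullback i').obj E))⟩

variable {X S : Scheme.{u}} [AlgebraicGeometry.IsNoetherian X] [AlgebraicGeometry.IsNoetherian S] (f : X ⟶ S)

/-- The key step: over a point `s`, modulo classes supported over proper specializations of `s`. -/
theorem cl_mem_of_fibre {m : ℕ} (E : Fin m → X.Modules) (hE : ∀ i, Coh.IsCoh (E i)) (s : S)
    (hfib : AddSubgroup.closure (Set.range (fun i : Fin m =>
      cl ((Scheme.Modules.pullback (f.fiberι s)).obj (E i)))) = ⊤)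
    (H : AddSubgroup (SGA6.Kcoh X))
    (hgen : ∀ i, cl (CohB1.tensorMod (E i) ((Scheme.Modules.pullback f).obj (Cyc.closureStructureSheaf s))) ∈ H)
    (hlow : ∀ y : X, f y ∈ closure ({s} : Set S) → f y ≠ s → cl (Cyc.closureStructureSheaf y) ∈ H)
    (x : X) (hx : f x = s) : cl (Cyc.closureStructureSheaf x) ∈ H := by
  classical
  let Z := (IntMult.ptIdeal s).subscheme
  let iZ := (IntMult.ptIdeal s).subschemeι
  haveI : IsIntegral Z := NagataFG.isIntegral_closure s
  let η : Z := genericPoint Z
  have hη : iZ η = s := by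
    obtain ⟨z, hz⟩ : s ∈ Set.range iZ := NagataFG.mem_range s
    have h1 := (genericPoint_specializes z).map iZ.continuous
    rw [hz] at h1
    have h2 : iZ η ∈ closure ({s} : Set S) := CycK0Lib.range_ptIdeal s ▸ ⟨_, rfl⟩
    exact (h1.antisymm (specializes_iff_mem_closure.2 h2)).eq
  obtain ⟨e, he, hef, hep, heq, hes⟩ := exists_generic_lift iZ η rfl hη
  let W := Limits.pullback f iZ
  let i' : W ⟶ X := Limits.pullback.fst f iZ
  let f' : W ⟶ Z := Limits.pullback.snd f iZ
  have hsq : IsPullback i' f' f iZ := IsPullback.of_hasPullback _ _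
  have hfib' : IsPullback (f.fiberι s) (f.fiberToSpecResidueField s) f (S.fromSpecResidueField s) :=
    IsPullback.of_hasPullback _ _
  let g : f.fiber s ⟶ W := hsq.lift (f.fiberι s) (f.fiberToSpecResidueField s ≫ e) (by
    rw [Category.assoc, he]; exact hfib'.w)
  have hgi : g ≫ i' = f.fiberι s := hsq.lift_fst _ _ _
  have hgp : IsPullback g (f.fiberToSpecResidueField s) f' e := by
    refine IsPullback.of_right ?_ (hsq.lift_snd _ _ _) hsq
    rw [he, hgi]
    exact hfib'
  haveI : Flat g := MorphismProperty.of_isPullback hgp.flip hef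
  haveI : IsPreimmersion g := MorphismProperty.of_isPullback hgp.flip hep
  haveI : QuasiCompact g := MorphismProperty.of_isPullback hgp.flip heq
  haveI : QuasiSeparated g := MorphismProperty.of_isPullback hgp.flip hes
  haveI : IsClosedImmersion i' := inferInstanceAs (IsClosedImmersion (Limits.pullback.fst f iZ))
  haveI : AlgebraicGeometry.IsNoetherian W :=
    { toIsLocallyNoetherian := LocallyOfFiniteType.isLocallyNoetherian i'
      toCompactSpace := QuasiCompact.compactSpace_of_compactSpace i' }
  haveI := isNoetherian_fiber f s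
  haveI := preservesFiniteLimits_pullback_flat g
  haveI := ProjClosedImmLib.preservesHomology_push i'
  -- the two homomorphisms
  have hpush : ∀ M, Coh.IsCoh M → Coh.IsCoh ((Coh.push i').obj M) := fun M hM => QCohLib.isCoh_push_finite i' M hM
  obtain ⟨ι, hι⟩ := Groth.Agent.KHeartLib.exists_lift_sub (fun M : W.Modules => Coh.IsCoh M)
    (fun M => cl ((Coh.push i').obj M)) fun T hT h₁ h₂ h₃ =>
      Groth.Agent.KHeartLib.clSub_add _ _ (hT.map_of_exact (Scheme.Modules.pushforward i')) (hpush _ h₁) (hpush _ h₂) (hpush _ h₃)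
  obtain ⟨r, hr⟩ := Groth.Agent.KHeartLib.exists_lift_sub (fun M : W.Modules => Coh.IsCoh M)
    (fun M => cl ((Scheme.Modules.pullback g).obj M)) fun T hT h₁ h₂ h₃ =>
      Groth.Agent.KHeartLib.clSub_add _ _ (hT.map_of_exact (Scheme.Modules.pullback g))
        (isCoh_pullback g h₁) (isCoh_pullback g h₂) (isCoh_pullback g h₃)
  have hE' : ∀ i, Coh.IsCoh ((Scheme.Modules.pullback i').obj (E i)) := fun i =>
    haveI := (hE i).1
    ⟨KFlatLib.isQCoh_pullback _ _, ConsLib.isFT_pullback _ _ (hE i).2⟩
  -- the class of the closure comes from `W`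
  have hrange : Set.range ⇑i' = f ⁻¹' closure ({s} : Set S) := by
    rw [← CycK0Lib.range_ptIdeal]
    ext y
    constructor
    · rintro ⟨w, rfl⟩
      exact ⟨f' w, by rw [← Scheme.Hom.comp_apply, ← hsq.w, Scheme.Hom.comp_apply]⟩
    · rintro ⟨z, hz⟩
      obtain ⟨w, hw, -⟩ := Scheme.exists_preimage_of_isPullback hsq y z hz.symm
      exact ⟨w, hw⟩
  obtain ⟨a, ha⟩ : ∃ a, ι a = cl (Cyc.closureStructureSheaf x) := by
    obtain ⟨φ, hφ⟩ := CycKSuppLib.exists_equiv i'
    obtain ⟨j, hj⟩ := CycK0Lib.exists_lift (addOn_cl (fun y : X => y ∈ Set.range ⇑i'))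
    have hsup : CohB1.support (Cyc.closureStructureSheaf x) ⊆ Set.range ⇑i' := fun y hy => by
      rw [hrange]
      exact map_mem_closure f.continuous (CycK0Lib.closure_support x hy) (fun w hw => hx ▸ congrArg f hw)
    have hP : P (fun y : X => y ∈ Set.range ⇑i') (Cyc.closureStructureSheaf x) :=
      P.mk (closure_mem (D := fun _ : X => True) (fun _ _ _ _ => trivial) trivial).coh fun y hy => hsup hy
    obtain ⟨j', hj'⟩ := CycK0Lib.exists_lift (D := fun _ : W => True)
      (φ := fun M => cl M) (addOn_cl _)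
    refine ⟨j' (φ.symm (KZero.clSub (P fun y : X => y ∈ Set.range ⇑i') (Cyc.closureStructureSheaf x))), ?_⟩
    have hcomm : ∀ b, ι (j' b) = j (φ b) := fun b => by
      refine CycK0Lib.induction_clSub (motive := fun b => ι (j' b) = j (φ b)) (by simp) (fun M hM => ?_)
        (fun c hc => by simp [hc]) (fun c d hc hd => by simp [hc, hd]) b
      rw [hj' M hM, hι M hM.coh, hφ M hM.coh, hj _ (P.mk (hpush M hM.coh) fun y hy => DevissLib.support_push_subset i' M hy)]
    rw [hcomm, φ.apply_symm_apply, hj _ hP]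
  -- coefficients on the fibre
  obtain ⟨n, hn⟩ : ∃ n : Fin m → ℤ, r a = ∑ i, n i • cl ((Scheme.Modules.pullback (f.fiberι s)).obj (E i)) := by
    have hra : r a ∈ AddSubgroup.closure (Set.range fun i : Fin m =>
        cl ((Scheme.Modules.pullback (f.fiberι s)).obj (E i))) := hfib ▸ trivial
    generalize r a = c₀ at hra ⊢
    induction hra using AddSubgroup.closure_induction with
    | mem c hc =>
      obtain ⟨i, rfl⟩ := hc
      refine ⟨Pi.single i 1, ?_⟩
      rw [Finset.sum_eq_single i (fun j _ hj => by simp [Pi.single_eq_of_ne hj]) (by simp)]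
      simp
    | zero => exact ⟨0, by simp⟩
    | add c d _ _ hc hd =>
      obtain ⟨u₁, h₁⟩ := hc
      obtain ⟨u₂, h₂⟩ := hd
      exact ⟨u₁ + u₂, by rw [h₁, h₂, ← Finset.sum_add_distrib]; simp [add_smul]⟩
    | neg c _ hc =>
      obtain ⟨u₁, h₁⟩ := hc
      exact ⟨-u₁, by rw [h₁]; simp⟩
  let b := a - ∑ i, n i • cl ((Scheme.Modules.pullback i').obj (E i))
  obtain ⟨ψ, hψ⟩ := exists_localized_pre g
  have hψr : ∀ c, ψ (r c) = QuotientAddGroup.mk c := fun c => by
    obtain ⟨F, G, hF, hG, rfl⟩ := exists_diff c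
    rw [map_sub, map_sub, hr F hF, hr G hG, hψ F hF, hψ G hG]
    rfl
  have hb : b ∈ lower (fun w : W => w ∉ Set.range ⇑g) := by
    rw [← QuotientAddGroup.eq_zero_iff, ← hψr b]
    have : r b = 0 := by
      simp only [b, map_sub, map_sum, map_zsmul]
      rw [hn, sub_eq_zero]
      refine Finset.sum_congr rfl fun i _ => congrArg (n i • ·) ?_
      rw [hr _ (hE' i)]
      exact ((addOn_cl (fun _ : f.fiber s => True)).iso
        ((Scheme.Modules.pullbackComp g i').app (E i) ≪≫ (Scheme.Modules.pullbackCongr hgi).app (E i))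
        (mem_top (isCoh_pullback g (hE' i)))).symm
    rw [this, map_zero]
  have hkill : lower (fun w : W => w ∉ Set.range ⇑g) ≤ H.comap ι := by
    refine (AddSubgroup.closure_le _).2 ?_
    rintro _ ⟨M, hM, rfl⟩
    show ι (cl M) ∈ H
    rw [hι M hM.coh]
    refine (AddSubgroup.closure_le H).2 ?_ (cl_mem_closures (hpush M hM.coh))
    rintro _ ⟨y, hy, rfl⟩
    obtain ⟨w, rfl⟩ := DevissLib.support_push_subset i' M hy
    refine hlow (i' w) (hrange.le ⟨w, rfl⟩) fun hys => ?_
    obtain ⟨q, hq⟩ : i' w ∈ Set.range ⇑(f.fiberι s) := by rw [f.range_fiberι]; exact hys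
    rw [← hgi] at hq
    have hgw : g q = w := i'.isClosedEmbedding.injective (by rw [← Scheme.Hom.comp_apply]; exact hq)
    have hw : w ∈ CohB1.support M := by
      intro hsub
      haveI : Subsingleton (M.presheaf.stalk w) := hsub
      exact hy (@Function.Injective.subsingleton _ _ _ (ConcreteCategory.bijective_of_isIso (ProjClosedImmLib.pushStalk i' w M)).1 hsub)
    exact hM.supp hw ⟨q, hgw⟩
  have h1 : ι b ∈ H := hkill hb
  simp only [b, map_sub, map_sum, map_zsmul, ha] at h1
  have h2 : ∑ i, n i • ι (cl ((Scheme.Modules.pullback i').obj (E i))) ∈ H := by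
    refine sum_mem fun i _ => zsmul_mem ?_ _
    rw [hι _ (hE' i)]
    obtain ⟨e₃⟩ := nonempty_tensor_pull_iso f iZ i' f' hsq (E i)
    have := hgen i
    exact ((addOn_cl (fun _ : X => True)).iso e₃ (mem_top (QCohLib.isCoh_of_iso e₃.symm (hpush _ (hE' i))))) ▸ this
  have h3 := add_mem h1 h2
  rwa [sub_add_cancel] at h3

end CohGenLib

end
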