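import Groth.Agent.CohGenLib.Fibre
import Groth.Agent.StabLib.Simple
import Groth.Agent.AmpleLib.Gen
import Groth.Agent.CycK0Lib.Core
import Mathlib.AlgebraicGeometry.AffineSpace
import Mathlib.RingTheory.TensorProduct.MvPolynomial
import Mathlib.RingTheory.PrincipalIdealDomain

/-!
# `K₀` of coherent modules on affine spaces is generated by the structure sheaf
-/

set_option autoImplicit false
set_option linter.style.haveILetI false
set_option linter.unusedSectionVars false
set_option maxHeartbeats 1000000

universe u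

open CategoryTheory CategoryTheory.Limits AlgebraicGeometry TopologicalSpace Opposite
open scoped TensorProduct

noncomputable section

namespace CohGenLib

open CycK0Lib (P Levels)
open DevissLib (St)

/-- The structure sheaf generates `K₀`. -/
def GenO (X : Scheme.{u}) : Prop := ∀ a : SGA6.Kcoh X, a ∈ AddSubgroup.zmultiples (cl (Coh.structureModule X))

theorem cl_pullUnit {X Y : Scheme.{u}} [IsLocallyNoetherian X] (f : X ⟶ Y) :
    cl ((Scheme.Modules.pullback f).obj (Coh.structureModule Y)) = cl (Coh.structureModule X) :=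
  (addOn_cl (fun _ : X => True)).iso (KFlatLib.pullUnitIso f)
    (mem_top (QCohLib.isCoh_of_iso (KFlatLib.pullUnitIso f).symm (DevissLib.isCoh_structureModule _)))

theorem genO_of_iso {X Y : Scheme.{u}} [IsNoetherian X] [IsNoetherian Y] (e : X ≅ Y) (h : GenO Y) : GenO X := by
  let R := Scheme.Modules.pullback e.hom
  haveI : PreservesFiniteLimits R := preservesFiniteLimits_pullback_flat e.hom
  have hR : ∀ M, Coh.IsCoh M → Coh.IsCoh (R.obj M) := fun M hM => isCoh_pullback e.hom hM
  obtain ⟨r, hr⟩ := Groth.Agent.KHeartLib.exists_lift_sub (fun M : Y.Modules => Coh.IsCoh M)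
    (fun M => cl (R.obj M)) fun T hT h₁ h₂ h₃ =>
      Groth.Agent.KHeartLib.clSub_add _ _ (hT.map_of_exact R) (hR _ h₁) (hR _ h₂) (hR _ h₃)
  have hall : ∀ a, r a ∈ AddSubgroup.zmultiples (cl (Coh.structureModule X)) := fun a => by
    obtain ⟨k, rfl⟩ := h a
    show r (k • cl (Coh.structureModule Y)) ∈ _
    rw [map_zsmul, hr _ (DevissLib.isCoh_structureModule _), cl_pullUnit]
    exact ⟨k, rfl⟩
  intro a
  obtain ⟨F, G, hF, hG, rfl⟩ := exists_diff a
  have hb : ∀ F : X.Modules, Coh.IsCoh F → cl F ∈ AddSubgroup.zmultiples (cl (Coh.structureModule X)) := fun F hF => by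
    have hF' := isCoh_pullback e.inv hF
    have e' : R.obj ((Scheme.Modules.pullback e.inv).obj F) ≅ F :=
      (Scheme.Modules.pullbackComp e.hom e.inv).app F ≪≫ (Scheme.Modules.pullbackCongr e.hom_inv_id).app F ≪≫
        (Scheme.Modules.pullbackId X).app F
    have := hall (cl ((Scheme.Modules.pullback e.inv).obj F))
    rw [hr _ hF'] at this
    exact (addOn_cl (fun _ : X => True)).iso e' (mem_top (hR _ hF')) ▸ this
  exact sub_mem (hb F hF) (hb G hG)

theorem genO_of_flat {X S : Scheme.{u}} [IsNoetherian X] [IsNoetherian S] (f : X ⟶ S) [Flat f]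
    (hfib : ∀ s, GenO (f.fiber s)) (hS : GenO S) : GenO X := by
  let R := Scheme.Modules.pullback f
  haveI : PreservesFiniteLimits R := preservesFiniteLimits_pullback_flat f
  have hR : ∀ M, Coh.IsCoh M → Coh.IsCoh (R.obj M) := fun M hM =>
    haveI := hM.1
    ⟨KFlatLib.isQCoh_pullback f M, ConsLib.isFT_pullback f M hM.2⟩
  obtain ⟨r, hr⟩ := Groth.Agent.KHeartLib.exists_lift_sub (fun M : S.Modules => Coh.IsCoh M)
    (fun M => cl (R.obj M)) fun T hT h₁ h₂ h₃ =>
      Groth.Agent.KHeartLib.clSub_add _ _ (hT.map_of_exact R) (hR _ h₁) (hR _ h₂) (hR _ h₃)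
  have hO : Coh.IsCoh (Coh.structureModule X) := DevissLib.isCoh_structureModule _
  have key : ∀ (T : Closeds S) (x : X), closure ({f x} : Set S) = (T : Set S) →
      cl (Cyc.closureStructureSheaf x) ∈ r.range := by
    intro T
    induction T using WellFoundedLT.induction with
    | _ T ih =>
    intro x hT
    have hs : Coh.IsCoh (Cyc.closureStructureSheaf (f x)) :=
      (closure_mem (D := fun _ : S => True) (fun _ _ _ _ => trivial) trivial).coh
    refine cl_mem_of_fibre f (fun _ : Fin 1 => Coh.structureModule X) (fun _ => hO) (f x) ?_ r.range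
      (fun _ => ?_) (fun y hy hne => ?_) x rfl
    · haveI := isNoetherian_fiber f (f x)
      rw [eq_top_iff]
      rintro c -
      obtain ⟨k, rfl⟩ := hfib (f x) c
      refine zsmul_mem ?_ k
      refine AddSubgroup.subset_closure ⟨0, ?_⟩
      exact cl_pullUnit _
    · refine ⟨cl (Cyc.closureStructureSheaf (f x)), (hr _ hs).trans ?_⟩
      exact ((addOn_cl (fun _ : X => True)).iso (KFlatLib.tensUnitIso _)
        (mem_top (QCohLib.isCoh_of_iso (KFlatLib.tensUnitIso _).symm (hR _ hs)))).symm
    · refine ih ⟨_, isClosed_closure⟩ (lt_of_le_of_ne ?_ fun e => hne ?_) y rfl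
      · exact fun v hv => hT.le (closure_minimal (Set.singleton_subset_iff.2 hy) isClosed_closure hv)
      · have h1 : f x ∈ closure ({f y} : Set S) := by
          rw [show closure ({f y} : Set S) = (T : Set S) from congrArg SetLike.coe e, ← hT]
          exact subset_closure rfl
        exact ((specializes_iff_mem_closure.2 hy).antisymm (specializes_iff_mem_closure.2 h1)).eq.symm
  intro a
  have hall : a ∈ r.range := by
    obtain ⟨F, G, hF, hG, rfl⟩ := exists_diff a
    refine sub_mem ?_ ?_
    · refine (AddSubgroup.closure_le _).2 ?_ (cl_mem_closures hF)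
      rintro _ ⟨x, -, rfl⟩
      exact key ⟨_, isClosed_closure⟩ x rfl
    · refine (AddSubgroup.closure_le _).2 ?_ (cl_mem_closures hG)
      rintro _ ⟨x, -, rfl⟩
      exact key ⟨_, isClosed_closure⟩ x rfl
  obtain ⟨b, rfl⟩ := hall
  obtain ⟨k, rfl⟩ := hS b
  show r (k • cl (Coh.structureModule S)) ∈ _
  rw [map_zsmul, hr _ (DevissLib.isCoh_structureModule _), cl_pullUnit]
  exact ⟨k, rfl⟩

theorem stalk_smulHom' {A : Scheme.{u}} (M : A.Modules) (r : Coh.Γtop A) (z : A) (m : (St z).obj M) :
    ((St z).map (StabLib.smulHom M r)).hom m = A.presheaf.germ ⊤ z trivial r • m := by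
  obtain ⟨W, hW, s, rfl⟩ := DevissLib.exists_gm_eq M z m
  rw [DevissLib.gm_app, StabLib.smulHom_app, DevissLib.gm_smul, TopCat.Presheaf.germ_res_apply]

/-- The spectrum of a principal ideal domain. -/
theorem genO_pid (A : CommRingCat.{u}) [IsDomain A] [IsPrincipalIdealRing A] : GenO (Spec A) := by
  classical
  let X := Spec A
  haveI : IsNoetherianRing A := inferInstance
  let η : X := (⟨⊥, Ideal.isPrime_bot⟩ : PrimeSpectrum A)
  let O := Coh.structureModule X
  have hO : Coh.IsCoh O := DevissLib.isCoh_structureModule _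
  have hηy : ∀ y : X, η ⤳ y := fun y => (PrimeSpectrum.le_iff_specializes η y).1 bot_le
  letI : ∀ q : X, Algebra A (X.presheaf.stalk q) := fun q => StructureSheaf.stalkAlgebra A q
  haveI : ∀ q : X, IsLocalization.AtPrime (X.presheaf.stalk q) (show PrimeSpectrum A from q).asIdeal := fun q =>
    StructureSheaf.IsLocalization.to_stalk A q
  have hstalk : ∀ q : X, ∃ e : (St q).obj O ≃ₗ[X.presheaf.stalk q] X.presheaf.stalk q, True :=
    fun q => ⟨(LinearEquiv.ofBijective (LinearMap.toSpanSingleton (X.presheaf.stalk q) ((St q).obj O)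
      (DevissLib.gm O q (show q ∈ (⊤ : X.Opens) from trivial) (1 : Γ(X, ⊤))))
      ((AmpleLib.one_genOn (X := X) ⊤).genAt (x := q) trivial)).symm, trivial⟩
  -- closed points have zero class
  have hclosed : ∀ p : X, p ≠ η → cl (Cyc.closureStructureSheaf p) = 0 := by
    intro p hp
    obtain ⟨π, hπ⟩ := IsPrincipalIdealRing.principal (show PrimeSpectrum A from p).asIdeal
    have hπ0 : π ≠ 0 := fun h0 => hp (PrimeSpectrum.ext (by
      show (show PrimeSpectrum A from p).asIdeal = ⊥
      rw [hπ, h0]; exact Ideal.span_singleton_eq_bot.2 rfl))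
    have hmax : (show PrimeSpectrum A from p).asIdeal.IsMaximal :=
      IsPrime.to_maximal_ideal (fun h => hp (PrimeSpectrum.ext h))
    let t : Γ(X, ⊤) := (Scheme.ΓSpecIso A).inv π
    let m := StabLib.smulHom O t
    have hgerm : ∀ q : X, X.presheaf.germ ⊤ q trivial t = algebraMap A (X.presheaf.stalk q) π := fun q => rfl
    have hsm : ∀ (q : X) (c : (St q).obj O), ((St q).map m).hom c = algebraMap A (X.presheaf.stalk q) π • c :=
      fun q c => stalk_smulHom' O t q c
    have hinj : ∀ q : X, Function.Injective ((St q).map m).hom := fun q a b h => by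
      haveI : IsDomain (X.presheaf.stalk q) :=
        IsLocalization.isDomain_of_atPrime (X.presheaf.stalk q) (show PrimeSpectrum A from q).asIdeal
      rw [hsm, hsm] at h
      obtain ⟨e, -⟩ := hstalk q
      refine e.injective (mul_left_cancel₀ (a := algebraMap A (X.presheaf.stalk q) π) ?_ ?_)
      · exact fun h0 => hπ0 ((IsLocalization.injective (X.presheaf.stalk q)
          (show PrimeSpectrum A from q).asIdeal.primeCompl_le_nonZeroDivisors) (h0.trans (map_zero _).symm))
      · have := congrArg e h
        rwa [map_smul, map_smul, smul_eq_mul, smul_eq_mul] at this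
    haveI : Mono m := CycK0Lib.mono_of_stalks m hinj
    have hQ : Coh.IsCoh (cokernel m) := QCohLib.isCoh_cokernel m hO.1 hO
    have hzero : cl (cokernel m) = 0 := by
      have hS : (ShortComplex.mk m (cokernel.π m) (cokernel.condition m)).ShortExact :=
        { exact := ShortComplex.exact_of_g_is_cokernel _ (cokernelIsCokernel m) }
      have := Groth.Agent.KHeartLib.clSub_add (fun M : X.Modules => Coh.IsCoh M) _ hS hO hO hQ
      exact left_eq_add.1 this
    have hsupp : ∀ q ∈ CohB1.support (cokernel m), q = p := fun q hq => by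
      by_contra hne
      refine DevissLib.notMem_support_cokernel m q ?_ hq
      intro c
      have hu : IsUnit (algebraMap A (X.presheaf.stalk q) π) := by
        rw [IsLocalization.AtPrime.isUnit_to_map_iff (X.presheaf.stalk q) (show PrimeSpectrum A from q).asIdeal]
        intro hπq
        have hle : (show PrimeSpectrum A from p).asIdeal ≤ (show PrimeSpectrum A from q).asIdeal := by
          rw [hπ]; exact (Ideal.span_singleton_le_iff_mem _).2 hπq
        exact hne (PrimeSpectrum.ext (hmax.eq_of_le (show PrimeSpectrum A from q).isPrime.ne_top hle).symm)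
      refine ⟨(hu.unit⁻¹ : (X.presheaf.stalk q)ˣ) • c, ?_⟩
      rw [hsm, Units.smul_def, smul_smul, IsUnit.mul_val_inv, one_smul]
    have L : Levels (fun q : X => q = p) (fun _ => False) :=
      ⟨fun _ h => h.elim, fun x y _ hy h => by
        subst hy
        by_contra hne
        exact hne (PrimeSpectrum.ext (hmax.eq_of_le (show PrimeSpectrum A from x).isPrime.ne_top
          ((PrimeSpectrum.le_iff_specializes _ _).2 h)))⟩
    have hP : P (fun q : X => q = p) (cokernel m) := P.mk hQ hsupp
    have hlen : Module.length (X.presheaf.stalk p) ((St p).obj (cokernel m)) = 1 := by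
      obtain ⟨e, -⟩ := hstalk p
      rw [CycK0Lib.length_coker m (e.symm 1) (fun c => ⟨e c, e.injective (by simp)⟩)
        (IsLocalRing.maximalIdeal _) (fun r => ?_)]
      · rw [Module.length_eq_one_iff]
        exact isSimpleModule_iff_quot_maximal.2 ⟨_, inferInstance, ⟨LinearEquiv.refl _ _⟩⟩
      · rw [← IsLocalization.AtPrime.map_eq_maximalIdeal (show PrimeSpectrum A from p).asIdeal (X.presheaf.stalk p),
          show (show PrimeSpectrum A from p).asIdeal = Ideal.span {π} from hπ, Ideal.map_span, Set.image_singleton,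
          Ideal.mem_span_singleton']
        constructor
        · rintro ⟨c, hc⟩
          rw [hsm] at hc
          have := congrArg e hc
          rw [map_smul, map_smul, e.apply_symm_apply, smul_eq_mul, smul_eq_mul, mul_one] at this
          exact ⟨e c, (mul_comm _ _).trans this⟩
        · rintro ⟨c, hc⟩
          refine ⟨e.symm c, e.injective ?_⟩
          rw [hsm, map_smul, map_smul, e.apply_symm_apply, e.apply_symm_apply, smul_eq_mul, smul_eq_mul,
            mul_one, mul_comm]
          exact hc
    have key := sub_sum_mem L (fun x y hx h => (L.max y x not_false hx h).symm.trans hx) hP {p}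
      (fun x hx => by rw [Finset.mem_singleton] at hx; exact ⟨not_false, hx⟩)
      (fun x hx _ => Finset.mem_singleton.2 (hsupp x hx))
    have hbot : lower (X := X) (fun _ : X => False) ≤ ⊥ := (AddSubgroup.closure_le _).2 (by
      rintro _ ⟨H, hH, rfl⟩
      exact (addOn_cl (fun _ : X => True)).zero (DevissLib.isZero_of_support_empty
        (Set.eq_empty_iff_forall_notMem.2 fun x hx => hH.supp hx)))
    have := (AddSubgroup.mem_bot).1 (hbot key)
    rw [Finset.sum_singleton] at this
    erw [hlen] at this
    rw [hzero, show ((1 : ℕ∞)).toNat = 1 from rfl, one_smul, zero_sub, neg_eq_zero] at this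
    exact this
  -- hence everything is a multiple of the structure sheaf
  have L : Levels (fun _ : X => True) (fun q => q ≠ η) :=
    ⟨fun _ _ => trivial, fun x y hx _ h => by
      obtain rfl := not_not.1 hx
      exact (h.antisymm (hηy y)).eq⟩
  have hlow : lower (fun q : X => q ≠ η) ≤ ⊥ := (AddSubgroup.closure_le _).2 (by
    rintro _ ⟨H, hH, rfl⟩
    refine (AddSubgroup.closure_le (⊥ : AddSubgroup (SGA6.Kcoh X))).2 ?_ (cl_mem_closures hH.coh)
    rintro _ ⟨q, hq, rfl⟩
    exact hclosed q (hH.supp hq))
  have hmul : ∀ F, Coh.IsCoh F → cl F ∈ AddSubgroup.zmultiples (cl (Cyc.closureStructureSheaf η)) := fun F hF => by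
    have key := sub_sum_mem L (fun _ _ _ _ => trivial) (mem_top hF) {η}
      (fun x hx => by rw [Finset.mem_singleton] at hx; exact ⟨not_not.2 hx, trivial⟩)
      (fun x _ hx => Finset.mem_singleton.2 (not_not.1 hx))
    have := sub_eq_zero.1 ((AddSubgroup.mem_bot).1 (hlow key))
    rw [this, Finset.sum_singleton]
    exact nsmul_mem (AddSubgroup.mem_zmultiples _) _
  have hηO : cl (Cyc.closureStructureSheaf η) = cl O := by
    have key := sub_sum_mem L (fun _ _ _ _ => trivial) (mem_top hO) {η}
      (fun x hx => by rw [Finset.mem_singleton] at hx; exact ⟨not_not.2 hx, trivial⟩)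
      (fun x _ hx => Finset.mem_singleton.2 (not_not.1 hx))
    have h := sub_eq_zero.1 ((AddSubgroup.mem_bot).1 (hlow key))
    rw [Finset.sum_singleton] at h
    have h1 : Module.length (X.presheaf.stalk η) ((St η).obj O) = 1 := by
      obtain ⟨e, -⟩ := hstalk η
      haveI hlocη : @IsLocalization.AtPrime A _ (X.presheaf.stalk η) _ _ (show PrimeSpectrum A from η).asIdeal
          (show PrimeSpectrum A from η).isPrime := StructureSheaf.IsLocalization.to_stalk A η
      have hF : IsField (X.presheaf.stalk η) := by
        rw [IsLocalRing.isField_iff_maximalIdeal_eq, ← IsLocalization.AtPrime.map_eq_maximalIdeal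
          (show PrimeSpectrum A from η).asIdeal (X.presheaf.stalk η)]
        exact Ideal.map_bot
      letI := hF.toField
      rw [e.length_eq]
      exact Module.length_eq_one_iff.2 inferInstance
    erw [h1] at h
    rw [show ((1 : ℕ∞)).toNat = 1 from rfl, one_smul] at h
    exact h.symm
  intro a
  obtain ⟨F, G, hF, hG, rfl⟩ := exists_diff a
  exact hηO ▸ sub_mem (hmul F hF) (hmul G hG)

/-- Affine spaces over fields. -/
theorem genO_mvPolynomial : ∀ (r : ℕ) (κ : Type u) [Field κ],
    GenO (Spec (CommRingCat.of (MvPolynomial (ULift.{u} (Fin r)) κ))) := by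
  intro r
  induction r with
  | zero =>
    intro κ _
    haveI : IsPrincipalIdealRing (MvPolynomial (ULift.{u} (Fin 0)) κ) :=
      IsPrincipalIdealRing.of_surjective (MvPolynomial.isEmptyRingEquiv κ (ULift.{u} (Fin 0))).symm.toRingHom
        (MvPolynomial.isEmptyRingEquiv κ (ULift.{u} (Fin 0))).symm.surjective
    exact genO_pid _
  | succ r ih =>
    intro κ _
    let R : CommRingCat.{u} := CommRingCat.of (MvPolynomial (ULift.{u} (Fin r)) κ)
    let n : Type u := ULift.{u} (Fin 1)
    let f : 𝔸(n; Spec R) ⟶ Spec R := 𝔸(n; Spec R) ↘ Spec R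
    haveI : IsNoetherianRing R := inferInstanceAs (IsNoetherianRing (MvPolynomial (ULift.{u} (Fin r)) κ))
    haveI : IsNoetherian (𝔸(n; Spec R)) :=
      { toIsLocallyNoetherian := LocallyOfFiniteType.isLocallyNoetherian f
        toCompactSpace := QuasiCompact.compactSpace_of_compactSpace f }
    haveI : Flat f := by
      have : Flat ((AffineSpace.SpecIso n R).hom ≫ Spec.map (CommRingCat.ofHom (MvPolynomial.C : R →+* MvPolynomial n R))) := by
        haveI : Flat (Spec.map (CommRingCat.ofHom (MvPolynomial.C : R →+* MvPolynomial n R))) := by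
          rw [Flat.SpecMap_iff]
          exact RingHom.flat_algebraMap_iff.2 (inferInstance : Module.Flat R (MvPolynomial n R))
        infer_instance
      rwa [← AffineSpace.SpecIso_inv_over, Iso.hom_inv_id_assoc] at this
    have hfib : ∀ s, GenO (f.fiber s) := fun s => by
      let K : CommRingCat.{u} := (Spec R).residueField s
      haveI : IsPrincipalIdealRing (MvPolynomial n K) :=
        IsPrincipalIdealRing.of_surjective
          ((MvPolynomial.renameEquiv K (Equiv.ofUnique PUnit.{1} n)).toRingEquiv.toRingHom.comp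
            (MvPolynomial.pUnitAlgEquiv K).symm.toRingEquiv.toRingHom)
          ((MvPolynomial.renameEquiv K (Equiv.ofUnique PUnit.{1} n)).surjective.comp
            (MvPolynomial.pUnitAlgEquiv K).symm.surjective)
      haveI := isNoetherian_fiber f s
      have h1 : IsPullback (AffineSpace.map n ((Spec R).fromSpecResidueField s)) (𝔸(n; Spec K) ↘ Spec K) f
          ((Spec R).fromSpecResidueField s) := AffineSpace.isPullback_map _
      exact genO_of_iso ((h1.isoPullback).symm ≪≫ AffineSpace.SpecIso n K)
        (genO_pid (CommRingCat.of (MvPolynomial n K)))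
    let σ : MvPolynomial (ULift.{u} (Fin (r + 1))) κ ≃+* MvPolynomial n (MvPolynomial (ULift.{u} (Fin r)) κ) :=
      ((MvPolynomial.renameEquiv κ (Equiv.ulift.trans ((finCongr (Nat.add_comm r 1)).trans
        (finSumFinEquiv.symm.trans (Equiv.sumCongr Equiv.ulift.symm Equiv.ulift.symm))))).trans
          (MvPolynomial.sumAlgEquiv κ n (ULift.{u} (Fin r)))).toRingEquiv
    exact genO_of_iso ((Scheme.Spec.mapIso σ.toCommRingCatIso.op).symm ≪≫ (AffineSpace.SpecIso n R).symm)
      (genO_of_flat f hfib (ih κ))

/-- The fibres of affine space. -/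
theorem genO_fiber_affineSpace {S : Scheme.{u}} [IsNoetherian S] (r : ℕ) [IsNoetherian (𝔸(ULift.{u} (Fin r); S))] (s : S) :
    GenO ((𝔸(ULift.{u} (Fin r); S) ↘ S).fiber s) := by
  haveI := isNoetherian_fiber (𝔸(ULift.{u} (Fin r); S) ↘ S) s
  have h1 : IsPullback (AffineSpace.map (ULift.{u} (Fin r)) (S.fromSpecResidueField s))
      (𝔸(ULift.{u} (Fin r); Spec (S.residueField s)) ↘ Spec (S.residueField s)) (𝔸(ULift.{u} (Fin r); S) ↘ S)
      (S.fromSpecResidueField s) := AffineSpace.isPullback_map _
  exact genO_of_iso ((h1.isoPullback).symm ≪≫ AffineSpace.SpecIso (ULift.{u} (Fin r)) (S.residueField s))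
    (genO_mvPolynomial r (S.residueField s))

end CohGenLib

end
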