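import Groth.Agent.CycK0Lib.Add
import Mathlib.Algebra.Homology.ShortComplex.SnakeLemma
import Mathlib.CategoryTheory.Abelian.Exact
import Groth.Agent.DevissLib.ClosedImm

/-!
# Kernel and cokernel of an endomorphism of a short exact sequence
-/

set_option autoImplicit false
set_option linter.style.haveILetI false
set_option linter.unusedSectionVars false

universe u v

open CategoryTheory CategoryTheory.Limits AlgebraicGeometry

noncomputable section

namespace CohGenLib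

open CycK0Lib (P AddOn)

variable {X : Scheme.{u}} [IsLocallyNoetherian X] {D : X → Prop} {A : Type v} [AddCommGroup A] {φ : X.Modules → A}

theorem P.image {F G : X.Modules} (f : F ⟶ G) (hF : P D F) (hG : P D G) : P D (Abelian.image f) :=
  P.mk (DevissLib.isCoh_image f hF.coh hG.coh) fun _ hx => hG.supp (DevissLib.support_mono (Abelian.image.ι f) hx)

theorem addOn_kerIm (h : AddOn D φ) {F G : X.Modules} (f : F ⟶ G) (hF : P D F) (hG : P D G) :
    φ F = φ (kernel f) + φ (Abelian.image f) :=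
  h.add _ (DevissLib.kerImSeq_shortExact f) (hF.kernel f hG.coh.1) hF (P.image f hF hG)

theorem addOn_exact (h : AddOn D φ) {S : ShortComplex X.Modules} (hS : S.Exact) (h₁ : P D S.X₁) (h₂ : P D S.X₂)
    (h₃ : P D S.X₃) : φ S.X₂ = φ (Abelian.image S.f) + φ (Abelian.image S.g) := by
  have e : φ (kernel S.g) = φ (Abelian.image S.f) :=
    h.iso (hS.isLimitImage.conePointUniqueUpToIso (kernelIsKernel S.g)).symm (h₂.kernel S.g h₃.coh.1)
  rw [addOn_kerIm h S.g h₂ h₃, e]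

theorem addOn_image_of_mono (h : AddOn D φ) {F G : X.Modules} (f : F ⟶ G) [Mono f] (hF : P D F) :
    φ (Abelian.image f) = φ F :=
  (h.iso (asIso (Abelian.factorThruImage f)) hF).symm

theorem addOn_image_of_epi (h : AddOn D φ) {F G : X.Modules} (f : F ⟶ G) [Epi f] (hF : P D F) (hG : P D G) :
    φ (Abelian.image f) = φ G := by
  haveI : Epi (Abelian.image.ι f) := epi_of_epi_fac (Abelian.image.fac f)
  haveI : IsIso (Abelian.image.ι f) := isIso_of_mono_of_epi _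
  exact h.iso (asIso (Abelian.image.ι f)) (P.image f hF hG)

/-- The alternating sum of kernel and cokernel is additive. -/
theorem addOn_kerCoker (h : AddOn D φ) {S : ShortComplex X.Modules} (hS : S.ShortExact) (v : S ⟶ S)
    (k₁ : P D (kernel v.τ₁)) (k₂ : P D (kernel v.τ₂)) (k₃ : P D (kernel v.τ₃))
    (c₁ : P D (cokernel v.τ₁)) (c₂ : P D (cokernel v.τ₂)) (c₃ : P D (cokernel v.τ₃)) :
    φ (cokernel v.τ₂) - φ (kernel v.τ₂) =
      (φ (cokernel v.τ₁) - φ (kernel v.τ₁)) + (φ (cokernel v.τ₃) - φ (kernel v.τ₃)) := by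
  haveI := hS.mono_f
  haveI := hS.epi_g
  let D' : ShortComplex.SnakeInput X.Modules :=
    { L₀ := kernel v, L₁ := S, L₂ := S, L₃ := cokernel v, v₀₁ := kernel.ι v, v₁₂ := v, v₂₃ := cokernel.π v
      w₀₂ := kernel.condition v, w₁₃ := cokernel.condition v
      h₀ := kernelIsKernel v, h₃ := cokernelIsCokernel v
      L₁_exact := hS.exact, epi_L₁_g := hS.epi_g, L₂_exact := hS.exact, mono_L₂_f := hS.mono_f }
  haveI : Mono D'.L₁.f := hS.mono_f
  haveI : Epi D'.L₂.g := hS.epi_g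
  haveI : Mono D'.L₀.f := D'.mono_L₀_f
  haveI : Epi D'.L₃.g := D'.epi_L₃_g
  let a₁ : kernel v.τ₁ ≅ D'.L₀.X₁ := (PreservesKernel.iso ShortComplex.π₁ v).symm
  let a₂ : kernel v.τ₂ ≅ D'.L₀.X₂ := (PreservesKernel.iso ShortComplex.π₂ v).symm
  let a₃ : kernel v.τ₃ ≅ D'.L₀.X₃ := (PreservesKernel.iso ShortComplex.π₃ v).symm
  let b₁ : cokernel v.τ₁ ≅ D'.L₃.X₁ := (PreservesCokernel.iso ShortComplex.π₁ v).symm
  let b₂ : cokernel v.τ₂ ≅ D'.L₃.X₂ := (PreservesCokernel.iso ShortComplex.π₂ v).symm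
  let b₃ : cokernel v.τ₃ ≅ D'.L₃.X₃ := (PreservesCokernel.iso ShortComplex.π₃ v).symm
  rw [h.iso a₁ k₁, h.iso a₂ k₂, h.iso a₃ k₃, h.iso b₁ c₁, h.iso b₂ c₂, h.iso b₃ c₃]
  replace k₁ := k₁.of_iso a₁
  replace k₂ := k₂.of_iso a₂
  replace k₃ := k₃.of_iso a₃
  replace c₁ := c₁.of_iso b₁
  replace c₂ := c₂.of_iso b₂
  replace c₃ := c₃.of_iso b₃
  have e₀ : φ D'.L₀.X₂ = φ D'.L₀.X₁ + φ (Abelian.image D'.L₀.g) := by
    rw [addOn_exact h D'.L₀_exact k₁ k₂ k₃, addOn_image_of_mono h D'.L₀.f k₁]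
  have e₁ : φ D'.L₀.X₃ = φ (Abelian.image D'.L₀.g) + φ (Abelian.image D'.δ) :=
    addOn_exact h D'.L₁'_exact k₂ k₃ c₁
  have e₂ : φ D'.L₃.X₁ = φ (Abelian.image D'.δ) + φ (Abelian.image D'.L₃.f) :=
    addOn_exact h D'.L₂'_exact k₃ c₁ c₂
  have e₃ : φ D'.L₃.X₂ = φ (Abelian.image D'.L₃.f) + φ D'.L₃.X₃ := by
    rw [addOn_exact h D'.L₃_exact c₁ c₂ c₃, addOn_image_of_epi h D'.L₃.g c₂ c₃]
  rw [e₀, e₁, e₂, e₃]
  abel

end CohGenLib

end
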