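import Groth.Agent.CohGenLib.Line
import Groth.Agent.CohGenLib.PullK
import Groth.Agent.CohGenLib.SixTerm
import Groth.Agent.CycKSuppLib.Main
import Groth.Agent.CycPushLib.SheafPush

/-!
# Homotopy invariance of `K₀` of coherent modules
-/

set_option autoImplicit false
set_option linter.style.haveILetI false
set_option linter.unusedSectionVars false
set_option maxHeartbeats 1000000

universe u

open CategoryTheory CategoryTheory.Limits AlgebraicGeometry TopologicalSpace Opposite

noncomputable section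

namespace CohGenLib

open CycK0Lib (P AddOn Levels lenFun)
open DevissLib (St)

theorem flat_pr (n : Type u) (S : Scheme.{u}) : Flat (𝔸(n; S) ↘ S) :=
  MorphismProperty.pullback_fst _ _ <| by
  have := isIso_of_isTerminal specULiftZIsTerminal.{u} terminalIsTerminal (terminal.from _)
  rw [← terminal.comp_from (Spec.map (CommRingCat.ofHom (MvPolynomial.C (R := ULift.{u} ℤ) (σ := n)))),
    MorphismProperty.cancel_right_of_respectsIso (P := @Flat), Flat.SpecMap_iff]
  exact RingHom.flat_algebraMap_iff.2 (inferInstance : Module.Flat (ULift.{u} ℤ) (MvPolynomial n (ULift.{u} ℤ)))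

theorem isNoetherian_affineSpace (n : Type u) [Finite n] (S : Scheme.{u}) [IsNoetherian S] :
    IsNoetherian (𝔸(n; S)) :=
  { toIsLocallyNoetherian := LocallyOfFiniteType.isLocallyNoetherian (𝔸(n; S) ↘ S)
    toCompactSpace := QuasiCompact.compactSpace_of_compactSpace (𝔸(n; S) ↘ S) }

namespace Line

variable {X : Scheme.{u}}

instance flat_line : Flat (pr X) := flat_pr _ _

instance isClosedImmersion_zsec : IsClosedImmersion (zsec X) := by
  haveI : IsClosedImmersion (zsec X ≫ pr X) := by rw [zsec_pr]; infer_instance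
  exact IsClosedImmersion.of_comp (zsec X) (pr X)

variable [IsNoetherian X] [IsNoetherian (A1 X)]

theorem exists_rho : ∃ ρ : KZero.K0sub (P fun _ : X => True) →+ SGA6.Kcoh X,
    ∀ F, Coh.IsCoh F → ρ (KZero.clSub (P fun _ : X => True) F) = cl F := by
  obtain ⟨ρ, hρ⟩ := CycK0Lib.exists_lift (addOn_cl (fun _ : X => True))
  exact ⟨ρ, fun F hF => hρ F (mem_top hF)⟩

/-- The class on the zero section of a module supported on it. -/
def zCl (A : (A1 X).Modules) : SGA6.Kcoh X := (exists_rho (X := X)).choose (CycKSuppLib.psi (zsec X) A)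

theorem addOn_zCl : AddOn (fun w => w ∈ Set.range (zsec X)) (zCl (X := X)) :=
  addOn_comp (CycKSuppLib.addOn_psi (zsec X)) _

theorem support_ker_coker (M : (A1 X).Modules) :
    CohB1.support (kernel (StabLib.smulHom M (tc X))) ⊆ Set.range (zsec X) ∧
      CohB1.support (cokernel (StabLib.smulHom M (tc X))) ⊆ Set.range (zsec X) := by
  have hbij : ∀ w : A1 X, w ∉ Set.range (zsec X) →
      Function.Bijective ((St w).map (StabLib.smulHom M (tc X))).hom := fun w hw => by
    rw [range_zsec, Set.notMem_compl_iff, SetLike.mem_coe, Scheme.mem_basicOpen_top] at hw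
    have he : ⇑((St w).map (StabLib.smulHom M (tc X))).hom = fun q => (hw.unit : (A1 X).presheaf.stalk w) • q :=
      funext fun q => (stalk_smulHom M (tc X) w q).trans (by rw [hw.unit_spec])
    rw [he]
    exact ⟨fun a b h => (IsUnit.smul_left_cancel hw).1 h,
      fun c => ⟨(hw.unit⁻¹ : ((A1 X).presheaf.stalk w)ˣ) • c, by simp [Units.smul_def, smul_smul]⟩⟩
  exact ⟨fun w hw => by_contra fun h => DevissLib.notMem_support_kernel _ w (hbij w h).1 hw,
    fun w hw => by_contra fun h => DevissLib.notMem_support_cokernel _ w (hbij w h).2 hw⟩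

theorem mem_kerCoker {M : (A1 X).Modules} (hM : Coh.IsCoh M) :
    P (fun w => w ∈ Set.range (zsec X)) (kernel (StabLib.smulHom M (tc X))) ∧
      P (fun w => w ∈ Set.range (zsec X)) (cokernel (StabLib.smulHom M (tc X))) :=
  ⟨P.mk (QCohLib.isCoh_kernel _ hM hM.1) fun _ hx => (support_ker_coker M).1 hx,
    P.mk (QCohLib.isCoh_cokernel _ hM.1 hM) fun _ hx => (support_ker_coker M).2 hx⟩

theorem smulHom_natural {M N : (A1 X).Modules} (f : M ⟶ N) (r : Coh.Γtop (A1 X)) :
    StabLib.smulHom M r ≫ f = f ≫ StabLib.smulHom N r := by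
  refine Scheme.Modules.hom_ext _ _ fun U => ?_
  ext m
  exact (Scheme.Modules.Hom.app_smul f _ m)

theorem exists_delta : ∃ δ : SGA6.Kcoh (A1 X) →+ SGA6.Kcoh X, ∀ M : (A1 X).Modules, Coh.IsCoh M →
    δ (cl M) = zCl (cokernel (StabLib.smulHom M (tc X))) - zCl (kernel (StabLib.smulHom M (tc X))) := by
  refine Groth.Agent.KHeartLib.exists_lift_sub (fun M : (A1 X).Modules => Coh.IsCoh M) _ fun S hS h₁ h₂ h₃ => ?_
  let v : S ⟶ S := { τ₁ := StabLib.smulHom S.X₁ (tc X), τ₂ := StabLib.smulHom S.X₂ (tc X),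
                     τ₃ := StabLib.smulHom S.X₃ (tc X),
                     comm₁₂ := smulHom_natural S.f _, comm₂₃ := smulHom_natural S.g _ }
  exact addOn_kerCoker addOn_zCl hS v (mem_kerCoker h₁).1 (mem_kerCoker h₂).1 (mem_kerCoker h₃).1
    (mem_kerCoker h₁).2 (mem_kerCoker h₂).2 (mem_kerCoker h₃).2

/-- Specialization to the zero section. -/
def delta : SGA6.Kcoh (A1 X) →+ SGA6.Kcoh X := (exists_delta (X := X)).choose

theorem delta_cl {M : (A1 X).Modules} (hM : Coh.IsCoh M) :
    delta (cl M) = zCl (cokernel (StabLib.smulHom M (tc X))) - zCl (kernel (StabLib.smulHom M (tc X))) :=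
  (exists_delta (X := X)).choose_spec M hM

theorem zCl_mem_lower {E : X → Prop} {H : (A1 X).Modules} (hH : Coh.IsCoh H)
    (hs : ∀ w ∈ CohB1.support H, ∃ y, zsec X y = w ∧ E y) : zCl H ∈ lower E := by
  have hr : CohB1.support H ⊆ Set.range (zsec X) := fun w hw => let ⟨y, hy, _⟩ := hs w hw; ⟨y, hy⟩
  obtain ⟨Φ⟩ := CycKSuppLib.nonempty_filt (zsec X) hH hr
  have hc := CycKSuppLib.isCoh_pull (zsec X) Φ.isCoh_gr Φ.kil_gr
  rw [zCl, CycKSuppLib.psi_eq (zsec X) hH Φ, CycKSuppLib.kappa, (exists_rho (X := X)).choose_spec _ hc]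
  refine cl_mem_lower (P.mk hc fun y hy => ?_)
  haveI := Φ.isCoh_gr.1
  rw [Groth.Agent.S4357.result _ _ Φ.isCoh_gr.2] at hy
  obtain ⟨n, hn⟩ := Set.mem_iUnion.1 (CycK0Lib.support_sigma Φ.locFin_gr hy)
  obtain ⟨y', hy', hE⟩ := hs _ (DevissLib.support_mono (Φ.F n.down).arrow (CycKSuppLib.support_Q (Φ.anti n.down) hn))
  rwa [(zsec X).isClosedEmbedding.injective hy'] at hE

theorem zCl_push {N : X.Modules} (hN : Coh.IsCoh N) : zCl ((Coh.push (zsec X)).obj N) = cl N := by
  rw [zCl, CycKSuppLib.psi_of_kil (zsec X) (QCohLib.isCoh_push_finite _ _ hN) (CycKSuppLib.kil_push _ N),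
    CycKSuppLib.kappa_push (zsec X) N hN, (exists_rho (X := X)).choose_spec _ hN]

theorem support_push {N : X.Modules} (hN : Coh.IsCoh N) {w : A1 X}
    (hw : w ∈ CohB1.support ((Coh.push (zsec X)).obj N)) : ∃ y, zsec X y = w ∧ y ∈ CohB1.support N := by
  obtain ⟨y, rfl⟩ := (CycKSuppLib.kil_push (zsec X) N).1 hw
  refine ⟨y, rfl, ?_⟩
  have hc := QCohLib.isCoh_push_finite (zsec X) N hN
  haveI := hc.1
  refine (DevissLib.support_iso (CycKSuppLib.pullPushIso (zsec X) N)).subset ?_
  rw [Groth.Agent.S4357.result _ _ hc.2]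
  exact hw

theorem delta_pullK_sub_mem (x : X) :
    delta (pullK (pr X) (cl (Cyc.closureStructureSheaf x))) - cl (Cyc.closureStructureSheaf x) ∈
      lower (fun y => x ⤳ y ∧ y ≠ x) := by
  have hx : Coh.IsCoh (Cyc.closureStructureSheaf x) :=
    (closure_mem (D := fun _ : X => True) (fun _ _ _ _ => trivial) trivial).coh
  rw [pullK_cl (pr X) hx]
  change delta (cl (fib x)) - _ ∈ _
  rw [delta_cl (isCoh_fib x)]
  obtain ⟨hK, hQ, hlen⟩ := fib_facts x
  let z := zsec X x
  let E : X → Prop := fun y => x ⤳ y ∧ y ≠ x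
  have hback : ∀ w, (z ⤳ w ∧ w ≠ z) → w ∈ Set.range (zsec X) → ∃ y, zsec X y = w ∧ E y := by
    rintro _ ⟨h, hne⟩ ⟨y, rfl⟩
    refine ⟨y, rfl, (zsec X).isClosedEmbedding.isInducing.specializes_iff.1 h, fun e => hne ?_⟩
    rw [e]
  have hrange : ∀ w, z ⤳ w → w ∈ Set.range (zsec X) := fun w h =>
    h.mem_closed (zsec X).isClosedEmbedding.isClosed_range ⟨x, rfl⟩
  have hker : zCl (kernel (StabLib.smulHom (fib x) (tc X))) ∈ lower E :=
    zCl_mem_lower hK.coh fun w hw => hback w (hK.supp hw) (hrange w (hK.supp hw).1)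
  have hG : P (fun w => z ⤳ w) ((Coh.push (zsec X)).obj (Cyc.closureStructureSheaf x)) :=
    P.mk (QCohLib.isCoh_push_finite _ _ hx) fun w hw => by
      obtain ⟨y, rfl, hy⟩ := support_push hx hw
      exact (specializes_iff_mem_closure.2 (CycK0Lib.closure_support x hy)).map (zsec X).continuous
  let q := QuotientAddGroup.mk' (lower E)
  have hq : AddOn (fun w => z ⤳ w) fun H => q (zCl H) :=
    ⟨fun S hS h₁ h₂ h₃ => by
      rw [(addOn_zCl (X := X)).add S hS (h₁.mono' hrange) (h₂.mono' hrange) (h₃.mono' hrange), map_add]⟩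
  have heq := (levels_zsec (X := X) x).eq_of_lenFun hq
    (fun H hH => (QuotientAddGroup.eq_zero_iff _).2
      (zCl_mem_lower hH.coh fun w hw => hback w (hH.supp hw) (hrange w (hH.supp hw).1)))
    hQ hG (funext fun w => by
      unfold lenFun
      split_ifs with hw
      · rfl
      · by_cases hwz : w = z
        · subst hwz
          erw [hlen, CycPushLib.length_stalk_push_closed (zsec X) _ x, CycK0Lib.closure_length]
        · have hD : ¬ z ⤳ w := fun h => hw ⟨h, hwz⟩
          rw [CycK0Lib.length_stalk_eq_zero fun h => hD (hQ.supp h),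
            CycK0Lib.length_stalk_eq_zero fun h => hD (hG.supp h)])
  have hcok : zCl (cokernel (StabLib.smulHom (fib x) (tc X))) - cl (Cyc.closureStructureSheaf x) ∈ lower E := by
    rw [← zCl_push (X := X) hx, ← QuotientAddGroup.eq_zero_iff, QuotientAddGroup.mk_sub, sub_eq_zero]
    exact heq
  rw [sub_right_comm]
  exact sub_mem hcok hker

/-- Pullback to the affine line is injective. -/
theorem injective_pullK : Function.Injective (pullK (pr X)) := by
  let N : SGA6.Kcoh X →+ SGA6.Kcoh X := AddMonoidHom.id _ - (delta (X := X)).comp (pullK (pr X))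
  let L : AddSubgroup (SGA6.Kcoh X) :=
    { carrier := {a | ∃ n : ℕ, (⇑N)^[n] a = 0}
      zero_mem' := ⟨0, rfl⟩
      neg_mem' := by
        rintro a ⟨n, hn⟩
        exact ⟨n, by rw [iterate_map_neg, hn, neg_zero]⟩
      add_mem' := by
        rintro a b ⟨n, hn⟩ ⟨m, hm⟩
        refine ⟨n + m, ?_⟩
        rw [iterate_map_add, show (⇑N)^[n + m] b = (⇑N)^[n] ((⇑N)^[m] b) from Function.iterate_add_apply _ _ _ _,
          hm, Nat.add_comm n m, Function.iterate_add_apply, hn, iterate_map_zero, iterate_map_zero, add_zero] }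
  have key : ∀ (T : Closeds X) (x : X), closure ({x} : Set X) = (T : Set X) →
      cl (Cyc.closureStructureSheaf x) ∈ L := by
    intro T
    induction T using WellFoundedLT.induction with
    | _ T ih =>
    intro x hT
    have hN : N (cl (Cyc.closureStructureSheaf x)) ∈ lower (fun y => x ⤳ y ∧ y ≠ x) := by
      have h := neg_mem (delta_pullK_sub_mem x)
      rwa [neg_sub] at h
    have hle : lower (fun y => x ⤳ y ∧ y ≠ x) ≤ L := (AddSubgroup.closure_le _).2 (by
      rintro _ ⟨H, hH, rfl⟩
      refine (AddSubgroup.closure_le L).2 ?_ (cl_mem_closures hH.coh)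
      rintro _ ⟨y, hy, rfl⟩
      obtain ⟨hxy, hne⟩ := hH.supp hy
      refine ih ⟨_, isClosed_closure⟩ (lt_of_le_of_ne ?_ fun e => hne ?_) y rfl
      · exact fun v hv => hT.le (closure_minimal
          (Set.singleton_subset_iff.2 (specializes_iff_mem_closure.1 hxy)) isClosed_closure hv)
      · have h1 : x ∈ closure ({y} : Set X) := by
          rw [show closure ({y} : Set X) = (T : Set X) from congrArg SetLike.coe e, ← hT]
          exact subset_closure rfl
        exact (hxy.antisymm (specializes_iff_mem_closure.2 h1)).eq.symm)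
    obtain ⟨n, hn⟩ := hle hN
    exact ⟨n + 1, by rw [Function.iterate_succ_apply]; exact hn⟩
  refine (injective_iff_map_eq_zero _).2 fun a ha => ?_
  obtain ⟨n, hn⟩ : a ∈ L := by
    obtain ⟨F, G, hF, hG, rfl⟩ := exists_diff a
    refine sub_mem ?_ ?_
    · refine (AddSubgroup.closure_le _).2 ?_ (cl_mem_closures hF)
      rintro _ ⟨x, -, rfl⟩
      exact key ⟨_, isClosed_closure⟩ x rfl
    · refine (AddSubgroup.closure_le _).2 ?_ (cl_mem_closures hG)
      rintro _ ⟨x, -, rfl⟩
      exact key ⟨_, isClosed_closure⟩ x rfl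
  have hfix : N a = a := by
    show a - delta (pullK (pr X) a) = a
    rw [ha, map_zero, sub_zero]
  rw [Function.iterate_fixed hfix] at hn
  exact hn

end Line

variable (S : Scheme.{u}) [IsNoetherian S]

/-- Splitting off the last coordinate. -/
def splitHom (r : ℕ) :
    𝔸(ULift.{u} (Fin (r + 1)); S) ⟶ Line.A1 (𝔸(ULift.{u} (Fin r); S)) :=
  AffineSpace.homOfVector
    (AffineSpace.homOfVector (𝔸(ULift.{u} (Fin (r + 1)); S) ↘ S)
      fun i => AffineSpace.coord S (ULift.up i.down.castSucc))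
    fun _ => AffineSpace.coord S (ULift.up (Fin.last r))

/-- Putting the coordinates together. -/
def joinHom (r : ℕ) :
    Line.A1 (𝔸(ULift.{u} (Fin r); S)) ⟶ 𝔸(ULift.{u} (Fin (r + 1)); S) :=
  AffineSpace.homOfVector (Line.pr _ ≫ 𝔸(ULift.{u} (Fin r); S) ↘ S)
    fun i => Fin.lastCases (Line.tc _) (fun j => (Line.pr _).appTop (AffineSpace.coord S (ULift.up j))) i.down

theorem splitHom_pr (r : ℕ) :
    splitHom S r ≫ Line.pr _ ≫ 𝔸(ULift.{u} (Fin r); S) ↘ S = 𝔸(ULift.{u} (Fin (r + 1)); S) ↘ S := by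
  rw [splitHom, AffineSpace.homOfVector_over_assoc, AffineSpace.homOfVector_over]

theorem split_join (r : ℕ) : splitHom S r ≫ joinHom S r = 𝟙 _ := by
  refine AffineSpace.hom_ext ?_ fun i => ?_
  · rw [Category.assoc, joinHom, AffineSpace.homOfVector_over, splitHom_pr, Category.id_comp]
  · obtain ⟨i⟩ := i
    rw [Scheme.Hom.comp_appTop, CommRingCat.comp_apply, joinHom, AffineSpace.homOfVector_appTop_coord]
    refine Fin.lastCases ?_ (fun j => ?_) i
    · simp only [Fin.lastCases_last, Scheme.Hom.id_appTop]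
      exact AffineSpace.homOfVector_appTop_coord _ _ _
    · simp only [Fin.lastCases_castSucc, Scheme.Hom.id_appTop]
      rw [← CommRingCat.comp_apply, ← Scheme.Hom.comp_appTop, splitHom, AffineSpace.homOfVector_over,
        AffineSpace.homOfVector_appTop_coord]
      rfl

theorem join_split (r : ℕ) : joinHom S r ≫ splitHom S r = 𝟙 _ := by
  refine AffineSpace.hom_ext (AffineSpace.hom_ext ?_ fun i => ?_) fun i => ?_
  · simp only [Category.assoc, Category.id_comp]
    rw [splitHom, AffineSpace.homOfVector_over_assoc, AffineSpace.homOfVector_over, joinHom,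
      AffineSpace.homOfVector_over]
  · simp only [Category.assoc, Category.id_comp]
    rw [splitHom, AffineSpace.homOfVector_over, Scheme.Hom.comp_appTop, CommRingCat.comp_apply,
      AffineSpace.homOfVector_appTop_coord, joinHom, AffineSpace.homOfVector_appTop_coord]
    simp
  · obtain rfl : i = Line.o := Subsingleton.elim _ _
    rw [Scheme.Hom.comp_appTop, CommRingCat.comp_apply, splitHom, AffineSpace.homOfVector_appTop_coord, joinHom,
      AffineSpace.homOfVector_appTop_coord]
    simp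

/-- Homotopy invariance, injectivity. -/
theorem injective_pullK_affineSpace : ∀ (r : ℕ) [IsNoetherian (𝔸(ULift.{u} (Fin r); S))]
    [Flat (𝔸(ULift.{u} (Fin r); S) ↘ S)], Function.Injective (pullK (𝔸(ULift.{u} (Fin r); S) ↘ S)) := by
  intro r
  induction r with
  | zero =>
    intro _ _
    exact injective_pullK_of_iso (asIso (𝔸(ULift.{u} (Fin 0); S) ↘ S))
  | succ r ih =>
    intro _ _
    haveI := isNoetherian_affineSpace (ULift.{u} (Fin r)) S
    haveI := isNoetherian_affineSpace Line.I1.{u} (𝔸(ULift.{u} (Fin r); S))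
    haveI := flat_pr (ULift.{u} (Fin r)) S
    let e : 𝔸(ULift.{u} (Fin (r + 1)); S) ≅ Line.A1 (𝔸(ULift.{u} (Fin r); S)) :=
      ⟨splitHom S r, joinHom S r, split_join S r, join_split S r⟩
    haveI : IsIso (splitHom S r) := e.isIso_hom
    haveI : Flat (Line.pr (𝔸(ULift.{u} (Fin r); S)) ≫ 𝔸(ULift.{u} (Fin r); S) ↘ S) := inferInstance
    haveI : Flat (splitHom S r ≫ Line.pr _ ≫ 𝔸(ULift.{u} (Fin r); S) ↘ S) := inferInstance
    rw [pullK_congr _ (splitHom_pr S r).symm, pullK_comp, pullK_comp]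
    exact (injective_pullK_of_iso e).comp (Line.injective_pullK.comp (ih))

/-- Homotopy invariance. -/
theorem bijective_pullK_affineSpace (r : ℕ) [IsNoetherian (𝔸(ULift.{u} (Fin r); S))]
    [Flat (𝔸(ULift.{u} (Fin r); S) ↘ S)] : Function.Bijective (pullK (𝔸(ULift.{u} (Fin r); S) ↘ S)) :=
  ⟨injective_pullK_affineSpace S r, surjective_pullK _ fun s => genO_fiber_affineSpace r s⟩

end CohGenLib

end
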