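import Mathlib.AlgebraicGeometry.AffineSpace
import Mathlib.RingTheory.Polynomial.Basic
import Mathlib.AlgebraicGeometry.Morphisms.ClosedImmersion
import Mathlib.RingTheory.Localization.AtPrime.Basic

/-!
# The local rings of the affine line along the zero section
-/

set_option autoImplicit false
set_option linter.style.haveILetI false

universe u

open CategoryTheory CategoryTheory.Limits AlgebraicGeometry

noncomputable section

namespace CohGenLib.Line

/-- The index of the coordinate. -/
abbrev I1 : Type u := ULift.{u} (Fin 1)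

/-- The coordinate's index. -/
abbrev o : I1.{u} := ULift.up 0

open MvPolynomial in
theorem algebra_facts {R : Type u} [CommRing R] (p : Ideal R) [p.IsPrime] {S : Type u} [CommRing S] [IsLocalRing S]
    [Algebra (MvPolynomial I1 R) S] [IsLocalization.AtPrime S (p.comap (constantCoeff (R := R) (σ := I1)))] :
    (∀ s : S, algebraMap (MvPolynomial I1 R) S (X o) * s ∈ (p.map C).map (algebraMap (MvPolynomial I1 R) S) →
      s ∈ (p.map C).map (algebraMap (MvPolynomial I1 R) S)) ∧
    (p.map C).map (algebraMap (MvPolynomial I1 R) S) ⊔ Ideal.span {algebraMap (MvPolynomial I1 R) S (X o)} =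
      IsLocalRing.maximalIdeal S := by
  let P := p.comap (constantCoeff (R := R) (σ := I1))
  have hpr : (p.map (C : R →+* MvPolynomial I1 R)).IsPrime := by
    conv => enter [1, 2]; rw [← Ideal.mk_ker (I := p)]
    rw [← MvPolynomial.ker_map]
    exact RingHom.ker_isPrime _
  have hle : p.map (C : R →+* MvPolynomial I1 R) ≤ P := Ideal.map_le_iff_le_comap.2 fun r hr => by
    show constantCoeff (C r) ∈ p
    rwa [constantCoeff_C]
  have hX : X o ∉ p.map (C : R →+* MvPolynomial I1 R) := fun h => by
    have h1 := mem_map_C_iff.1 h (Finsupp.single o 1)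
    rw [coeff_X, if_pos rfl] at h1
    exact Ideal.IsPrime.ne_top ‹p.IsPrime› ((Ideal.eq_top_iff_one p).2 h1)
  have hP : P = p.map (C : R →+* MvPolynomial I1 R) ⊔ Ideal.span {X o} := by
    refine le_antisymm (fun g hg => ?_) (sup_le hle ((Ideal.span_singleton_le_iff_mem _).2 ?_))
    · have h : ∀ g : MvPolynomial I1 R, g - C (constantCoeff g) ∈ Ideal.span {X o} := fun g => by
        induction g using MvPolynomial.induction_on with
        | C r => simp
        | add a b ha hb => have := add_mem ha hb; rw [map_add, map_add]; convert this using 1; ring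
        | mul_X a i h =>
          rw [show i = o from Subsingleton.elim _ _]
          simp only [map_mul, constantCoeff_X, mul_zero, map_zero, sub_zero]
          exact Ideal.mul_mem_left _ _ (Ideal.mem_span_singleton_self _)
      rw [← sub_add_cancel g (C (constantCoeff g))]
      exact add_mem (Ideal.mem_sup_right (h g)) (Ideal.mem_sup_left (Ideal.mem_map_of_mem _ hg))
    · show constantCoeff (X o) ∈ p
      rw [constantCoeff_X]
      exact zero_mem p
  refine ⟨fun s hs => ?_, ?_⟩
  · obtain ⟨⟨g, v⟩, hgv⟩ := IsLocalization.surj (M := P.primeCompl) s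
    have h1 : algebraMap _ S (X o * g) ∈ (p.map C).map (algebraMap (MvPolynomial I1 R) S) := by
      rw [map_mul, ← hgv, ← mul_assoc]
      exact Ideal.mul_mem_right _ _ hs
    obtain ⟨w, hw, hwg⟩ := (IsLocalization.algebraMap_mem_map_algebraMap_iff P.primeCompl S _ _).1 h1
    have hg : g ∈ p.map (C : R →+* MvPolynomial I1 R) :=
      (hpr.mem_or_mem ((hpr.mem_or_mem hwg).resolve_left fun h => hw (hle h))).resolve_left hX
    exact (Ideal.mul_unit_mem_iff_mem _ (IsLocalization.map_units S v)).1 (hgv ▸ Ideal.mem_map_of_mem _ hg)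
  · rw [← IsLocalization.AtPrime.map_eq_maximalIdeal P S, ← Set.image_singleton, ← Ideal.map_span,
      ← Ideal.map_sup, ← hP]

/-- The facts about the local ring at a point of the zero section. -/
def Facts {A X : Scheme.{u}} (f : A ⟶ X) (t : Γ(A, ⊤)) (z : A) : Prop :=
  (∀ s : A.presheaf.stalk z, A.presheaf.germ ⊤ z trivial t * s ∈
      (IsLocalRing.maximalIdeal (X.presheaf.stalk (f z))).map (f.stalkMap z).hom →
    s ∈ (IsLocalRing.maximalIdeal (X.presheaf.stalk (f z))).map (f.stalkMap z).hom) ∧
  (IsLocalRing.maximalIdeal (X.presheaf.stalk (f z))).map (f.stalkMap z).hom ⊔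
      Ideal.span {A.presheaf.germ ⊤ z trivial t} = IsLocalRing.maximalIdeal (A.presheaf.stalk z)

theorem facts_of_isOpenImmersion {A' A X : Scheme.{u}} (ψ : A' ⟶ A) [IsOpenImmersion ψ] (f : A ⟶ X)
    (t : Γ(A, ⊤)) (P : A') (h : Facts (ψ ≫ f) (ψ.appTop t) P) : Facts f t (ψ P) := by
  let e := (asIso (ψ.stalkMap P)).commRingCatIsoToRingEquiv
  have ha : (IsLocalRing.maximalIdeal (X.presheaf.stalk ((ψ ≫ f) P))).map ((ψ ≫ f).stalkMap P).hom =
      ((IsLocalRing.maximalIdeal (X.presheaf.stalk (f (ψ P)))).map (f.stalkMap (ψ P)).hom).map (e : _ →+* _) := by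
    rw [Ideal.map_map, Scheme.Hom.stalkMap_comp]
    rfl
  have ht : A'.presheaf.germ ⊤ P trivial (ψ.appTop t) = e (A.presheaf.germ ⊤ (ψ P) trivial t) :=
    (Scheme.Hom.germ_stalkMap_apply ψ ⊤ P trivial t).symm
  obtain ⟨h1, h2⟩ := h
  rw [ht] at h1 h2
  refine ⟨fun s hs => ?_, ?_⟩
  · have h3 := h1 (e s) (by
      rw [← map_mul]
      exact ha.ge (Ideal.mem_map_of_mem _ hs))
    exact (Ideal.mem_map_iff_of_surjective _ e.surjective).1 (ha.le h3) |>.elim fun y hy => e.injective hy.2 ▸ hy.1
  · have hm : (IsLocalRing.maximalIdeal (A.presheaf.stalk (ψ P))).map (e : _ →+* _) =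
        IsLocalRing.maximalIdeal (A'.presheaf.stalk P) :=
      IsLocalRing.eq_maximalIdeal (Ideal.map_isMaximal_of_equiv e (p := IsLocalRing.maximalIdeal _))
    have h3 := congrArg (Ideal.comap (e : A.presheaf.stalk (ψ P) →+* A'.presheaf.stalk P)) (h2.trans hm.symm)
    rw [ha, show Ideal.span {e (A.presheaf.germ ⊤ (ψ P) trivial t)} = (Ideal.span {A.presheaf.germ ⊤ (ψ P) trivial t}).map (e : _ →+* _) by
        rw [Ideal.map_span, Set.image_singleton]; rfl, ← Ideal.map_sup, Ideal.comap_map_of_bijective (e : A.presheaf.stalk (ψ P) →+* A'.presheaf.stalk P) e.bijective,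
      Ideal.comap_map_of_bijective (e : A.presheaf.stalk (ψ P) →+* A'.presheaf.stalk P) e.bijective] at h3
    exact h3

open MvPolynomial in
theorem facts_spec (R : CommRingCat.{u}) {X : Scheme.{u}} (j : Spec R ⟶ X) [IsOpenImmersion j] (p : PrimeSpectrum R) :
    Facts (Spec.map (CommRingCat.ofHom (C : R →+* MvPolynomial I1 R)) ≫ j)
      ((Scheme.ΓSpecIso (CommRingCat.of (MvPolynomial I1 R))).inv (MvPolynomial.X o))
      ((Spec.map (CommRingCat.ofHom (constantCoeff : MvPolynomial I1 R →+* R))) p) := by
  let B : CommRingCat.{u} := CommRingCat.of (MvPolynomial I1 R)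
  let c : R ⟶ B := CommRingCat.ofHom C
  let P : ↥(Spec B) := PrimeSpectrum.comap (constantCoeff : MvPolynomial I1 R →+* R) p
  show Facts (Spec.map c ≫ j) ((Scheme.ΓSpecIso B).inv (MvPolynomial.X o)) P
  have hcP : PrimeSpectrum.comap c.hom (P : PrimeSpectrum B) = p := by
    ext r
    show constantCoeff (C r) ∈ p.asIdeal ↔ _
    rw [constantCoeff_C]
  letI : Algebra (MvPolynomial I1 R) ((Spec B).presheaf.stalk P) :=
    inferInstanceAs (Algebra B ((Spec.structureSheaf B).presheaf.stalk P))
  haveI : IsLocalization.AtPrime ((Spec B).presheaf.stalk P)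
      (p.asIdeal.comap (constantCoeff : MvPolynomial I1 R →+* R)) :=
    inferInstanceAs (IsLocalization.AtPrime ((Spec.structureSheaf B).presheaf.stalk P) P.asIdeal)
  have ha : (IsLocalRing.maximalIdeal (X.presheaf.stalk ((Spec.map c ≫ j) P))).map ((Spec.map c ≫ j).stalkMap P).hom =
      (p.asIdeal.map C).map (algebraMap (MvPolynomial I1 R) ((Spec B).presheaf.stalk P)) := by
    letI : Algebra R ((Spec R).presheaf.stalk p) :=
      inferInstanceAs (Algebra R ((Spec.structureSheaf R).presheaf.stalk p))
    haveI : IsLocalization.AtPrime ((Spec R).presheaf.stalk p) p.asIdeal :=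
      inferInstanceAs (IsLocalization.AtPrime ((Spec.structureSheaf R).presheaf.stalk p) p.asIdeal)
    rw [Scheme.Hom.stalkMap_comp]
    erw [CommRingCat.hom_comp]
    rw [← Ideal.map_map]
    have hj : (IsLocalRing.maximalIdeal (X.presheaf.stalk (j (Spec.map c P)))).map (j.stalkMap (Spec.map c P)).hom =
        IsLocalRing.maximalIdeal ((Spec R).presheaf.stalk (Spec.map c P)) :=
      IsLocalRing.eq_maximalIdeal (Ideal.map_isMaximal_of_equiv (asIso (j.stalkMap (Spec.map c P))).commRingCatIsoToRingEquiv
        (p := IsLocalRing.maximalIdeal _))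
    refine (congrArg (Ideal.map ((Spec.map c).stalkMap P).hom) hj).trans ?_
    have key : ∀ (q : PrimeSpectrum R) (hq : q = PrimeSpectrum.comap c.hom P),
        (IsLocalRing.maximalIdeal ((Spec R).presheaf.stalk (Spec.map c P))).map ((Spec.map c).stalkMap P).hom =
          (q.asIdeal.map C).map (algebraMap (MvPolynomial I1 R) ((Spec B).presheaf.stalk P)) := by
      rintro q rfl
      letI : Algebra R ((Spec R).presheaf.stalk (Spec.map c P)) :=
        inferInstanceAs (Algebra R ((Spec.structureSheaf R).presheaf.stalk (PrimeSpectrum.comap c.hom P)))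
      haveI : IsLocalization.AtPrime ((Spec R).presheaf.stalk (Spec.map c P)) (PrimeSpectrum.comap c.hom P).asIdeal :=
        inferInstanceAs (IsLocalization.AtPrime ((Spec.structureSheaf R).presheaf.stalk (PrimeSpectrum.comap c.hom P))
          (PrimeSpectrum.comap c.hom P).asIdeal)
      rw [← IsLocalization.AtPrime.map_eq_maximalIdeal (PrimeSpectrum.comap c.hom P).asIdeal
        ((Spec R).presheaf.stalk (Spec.map c P)), Ideal.map_map, Ideal.map_map]
      congr 1
      exact congrArg CommRingCat.Hom.hom (AlgebraicGeometry.stalkMap_toStalk c (P : PrimeSpectrum B))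
    exact key p hcP.symm
  obtain ⟨h1, h2⟩ := algebra_facts p.asIdeal (S := (Spec B).presheaf.stalk P)
  unfold Facts
  rw [ha]
  exact ⟨h1, h2⟩

end CohGenLib.Line

end
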