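import Groth.Agent.CohGenLib.Gen
import Groth.Agent.CohGenLib.LineChart
import Groth.Agent.CycK0Lib.Core
import Groth.Agent.KFlatLib.QCohPull
import Groth.Agent.KFlatLib.StalkPull
import Groth.Agent.S4357
import Groth.Agent.StabLib.Simple
import Mathlib.RingTheory.TensorProduct.Quotient

/-!
# Coherent modules supported on the zero section of the affine line have zero class
-/

set_option autoImplicit false
set_option linter.style.haveILetI false
set_option linter.unusedSectionVars false

universe u

open CategoryTheory CategoryTheory.Limits AlgebraicGeometry TopologicalSpace Opposite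

noncomputable section

namespace CohGenLib.Line

open CycK0Lib (P Levels)
open DevissLib (St gm)

variable (X : Scheme.{u})

/-- The affine line. -/
abbrev A1 : Scheme.{u} := 𝔸(I1.{u}; X)

/-- The projection. -/
abbrev pr : A1 X ⟶ X := 𝔸(I1.{u}; X) ↘ X

/-- The coordinate. -/
abbrev tc : Γ(A1 X, ⊤) := AffineSpace.coord X o

/-- The zero section. -/
def zsec : X ⟶ A1 X := AffineSpace.homOfVector (𝟙 X) (fun _ => 0)

theorem zsec_pr : zsec X ≫ pr X = 𝟙 X := AffineSpace.homOfVector_over _ _

theorem pr_zsec (x : X) : pr X (zsec X x) = x := by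
  rw [← Scheme.Hom.comp_apply, zsec_pr]
  rfl

/-- A chart of the affine line over an affine open. -/
theorem exists_chart (x : X) : ∃ (R : CommRingCat.{u}) (j : Spec R ⟶ X) (_ : IsOpenImmersion j) (p : Spec R)
    (ψ : Spec (CommRingCat.of (MvPolynomial I1.{u} R)) ⟶ A1 X) (_ : IsOpenImmersion ψ),
    j p = x ∧ ψ ≫ pr X = Spec.map (CommRingCat.ofHom (MvPolynomial.C : R →+* MvPolynomial I1.{u} R)) ≫ j ∧
      ψ.appTop (tc X) = (Scheme.ΓSpecIso (CommRingCat.of (MvPolynomial I1.{u} R))).inv (MvPolynomial.X o) ∧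
      Spec.map (CommRingCat.ofHom (MvPolynomial.constantCoeff : MvPolynomial I1.{u} R →+* R)) ≫ ψ = j ≫ zsec X ∧
      ∀ z : A1 X, pr X z = x → z ∈ Set.range ψ := by
  obtain ⟨_, ⟨V, hV, rfl⟩, hxV, -⟩ := X.isBasis_affineOpens.exists_subset_of_mem_open (Set.mem_univ x) isOpen_univ
  obtain ⟨p, hp⟩ : x ∈ Set.range hV.fromSpec := by rw [hV.range_fromSpec]; exact hxV
  let R := Γ(X, V)
  let j := hV.fromSpec
  haveI : IsOpenImmersion (AffineSpace.map I1.{u} j) :=
    MorphismProperty.of_isPullback (AffineSpace.isPullback_map j).flip inferInstance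
  let ψ : Spec (CommRingCat.of (MvPolynomial I1.{u} R)) ⟶ A1 X :=
    (AffineSpace.SpecIso I1.{u} R).inv ≫ AffineSpace.map I1.{u} j
  have hco : ψ.appTop (tc X) = (Scheme.ΓSpecIso (CommRingCat.of (MvPolynomial I1.{u} R))).inv (MvPolynomial.X o) := by
    rw [Scheme.Hom.comp_appTop, CommRingCat.comp_apply, AffineSpace.map_appTop_coord]
    exact AffineSpace.SpecIso_inv_appTop_coord R o
  have hov : ψ ≫ pr X = Spec.map (CommRingCat.ofHom (MvPolynomial.C : R →+* MvPolynomial I1.{u} R)) ≫ j := by
    simp [ψ, pr]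
  refine ⟨R, j, inferInstance, p, ψ, inferInstance, hp, hov, hco, ?_, fun z hz => ?_⟩
  · refine AffineSpace.hom_ext ?_ fun i => ?_
    · refine (Category.assoc _ _ _).trans (((congrArg (_ ≫ ·) hov).trans ?_).trans
        (((congrArg (j ≫ ·) (zsec_pr X)).symm).trans (Category.assoc _ _ _).symm))
      rw [← Category.assoc, ← Spec.map_comp, ← CommRingCat.ofHom_comp]
      have : (MvPolynomial.constantCoeff : MvPolynomial I1.{u} R →+* R).comp MvPolynomial.C = RingHom.id R :=
        RingHom.ext fun r => MvPolynomial.constantCoeff_C _ r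
      rw [this, CommRingCat.ofHom_id, Spec.map_id, Category.id_comp]
      exact (Category.comp_id j).symm
    · obtain rfl : i = o := Subsingleton.elim _ _
      rw [Scheme.Hom.comp_appTop (Spec.map _) ψ, CommRingCat.comp_apply, Scheme.Hom.comp_appTop j (zsec X), CommRingCat.comp_apply,
        show ψ.appTop (AffineSpace.coord X o) = _ from hco]
      erw [AffineSpace.homOfVector_appTop_coord]
      rw [← CommRingCat.comp_apply, ← Scheme.ΓSpecIso_inv_naturality, CommRingCat.comp_apply]
      simp
  · obtain ⟨w, -, hw⟩ := Scheme.exists_preimage_of_isPullback (AffineSpace.isPullback_map (n := I1.{u}) j).flip p z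
      (by rw [hp]; exact hz.symm)
    exact ⟨(AffineSpace.SpecIso I1.{u} R).hom w, by
      rw [← hw, ← Scheme.Hom.comp_apply]; simp [ψ]⟩

theorem facts (x : X) : Facts (pr X) (tc X) (zsec X x) := by
  obtain ⟨R, j, hj, p, ψ, hψ, hx, hov, hco, hsec, -⟩ := exists_chart X x
  have h := facts_spec R j p
  rw [← hov, ← hco] at h
  have h2 := facts_of_isOpenImmersion ψ (pr X) (tc X) _ h
  rwa [← Scheme.Hom.comp_apply, hsec, Scheme.Hom.comp_apply, hx] at h2

/-- The zero locus of the coordinate is the zero section. -/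
theorem range_zsec : Set.range (zsec X) = (((A1 X).basicOpen (tc X) : Set (A1 X)))ᶜ := by
  ext z
  simp only [Set.mem_compl_iff, SetLike.mem_coe, Scheme.mem_basicOpen_top]
  constructor
  · rintro ⟨x, rfl⟩ hu
    have h := (facts X x).2
    have hm : (A1 X).presheaf.germ ⊤ (zsec X x) trivial (tc X) ∈ IsLocalRing.maximalIdeal _ :=
      h.le (Ideal.mem_sup_right (Ideal.mem_span_singleton_self _))
    exact hm hu
  · intro hz
    obtain ⟨R, j, hj, p, ψ, hψ, hx, hov, hco, hsec, hrange⟩ := exists_chart X (pr X z)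
    obtain ⟨Q, rfl⟩ := hrange z rfl
    let B : CommRingCat.{u} := CommRingCat.of (MvPolynomial I1.{u} R)
    have hX : (MvPolynomial.X o : MvPolynomial I1.{u} R) ∈ (show PrimeSpectrum B from Q).asIdeal := by
      by_contra hn
      refine hz ((isUnit_map_iff (ψ.stalkMap Q).hom _).1 ?_)
      have e : (ψ.stalkMap Q).hom ((A1 X).presheaf.germ ⊤ (ψ Q) trivial (tc X)) =
          (Spec B).presheaf.germ ⊤ Q trivial ((Scheme.ΓSpecIso B).inv (MvPolynomial.X o)) := by
        rw [← hco]
        exact Scheme.Hom.germ_stalkMap_apply ψ ⊤ Q trivial _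
      rw [e, ← Scheme.mem_basicOpen_top, basicOpen_eq_of_affine]
      exact hn
    have hp : PrimeSpectrum.comap (MvPolynomial.C : R →+* MvPolynomial I1.{u} R) (show PrimeSpectrum B from Q) = p := by
      refine j.isOpenEmbedding.injective ?_
      rw [hx, ← Scheme.Hom.comp_apply, hov]
      rfl
    have hQ : Q = (PrimeSpectrum.comap (MvPolynomial.constantCoeff : MvPolynomial I1.{u} R →+* R) p : PrimeSpectrum B) := by
      refine PrimeSpectrum.ext (Ideal.ext fun g => ?_)
      have h : ∀ g : MvPolynomial I1.{u} R, g - MvPolynomial.C (MvPolynomial.constantCoeff g) ∈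
          (show PrimeSpectrum B from Q).asIdeal := fun g => by
        induction g using MvPolynomial.induction_on with
        | C r => simp
        | add a b ha hb => have := add_mem ha hb; rw [map_add, map_add]; convert this using 1; ring
        | mul_X a i h =>
          rw [show i = o from Subsingleton.elim _ _]
          simp only [map_mul, MvPolynomial.constantCoeff_X, mul_zero, map_zero, sub_zero]
          exact Ideal.mul_mem_left _ _ hX
      show g ∈ _ ↔ MvPolynomial.constantCoeff g ∈ p.asIdeal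
      rw [← hp]
      show g ∈ _ ↔ MvPolynomial.C (MvPolynomial.constantCoeff g) ∈ (show PrimeSpectrum B from Q).asIdeal
      exact ⟨fun hg => by simpa using sub_mem hg (h g), fun hg => by simpa using add_mem (h g) hg⟩
    refine ⟨j p, ?_⟩
    rw [← Scheme.Hom.comp_apply, ← hsec, Scheme.Hom.comp_apply, hQ]
    rfl

section Module

variable {X}
variable (x : X)

/-- The pullback of the structure module of the closure of a point. -/
def fib : (A1 X).Modules := (Scheme.Modules.pullback (pr X)).obj (Cyc.closureStructureSheaf x)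

theorem isCoh_fib [IsLocallyNoetherian X] : Coh.IsCoh (fib x) := by
  have h : Coh.IsCoh (Cyc.closureStructureSheaf x) :=
    (closure_mem (D := fun _ : X => True) (fun _ _ _ _ => trivial) trivial).coh
  haveI := h.1
  exact ⟨KFlatLib.isQCoh_pullback _ _, ConsLib.isFT_pullback _ _ h.2⟩

theorem support_fib [IsLocallyNoetherian X] {z : A1 X} (hz : z ∈ CohB1.support (fib x)) :
    pr X z ∈ closure ({x} : Set X) := by
  have h : Coh.IsCoh (Cyc.closureStructureSheaf x) :=
    (closure_mem (D := fun _ : X => True) (fun _ _ _ _ => trivial) trivial).coh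
  haveI := h.1
  rw [fib, Groth.Agent.S4357.result _ _ h.2] at hz
  exact CycK0Lib.closure_support x hz

/-- The stalk on the zero section is the local ring modulo the maximal ideal of the base. -/
theorem exists_equiv_stalk [IsLocallyNoetherian X] (z : A1 X) (hz : pr X z = x) :
    Nonempty ((St z).obj (fib x) ≃ₗ[(A1 X).presheaf.stalk z] ((A1 X).presheaf.stalk z ⧸
      (IsLocalRing.maximalIdeal (X.presheaf.stalk (pr X z))).map ((pr X).stalkMap z).hom)) := by
  subst hz
  letI := ((pr X).stalkMap z).hom.toAlgebra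
  let R := X.presheaf.stalk (pr X z)
  let N := (St (pr X z)).obj (Cyc.closureStructureSheaf (pr X z))
  haveI : IsSimpleModule R N := Module.length_eq_one_iff.1 (CycK0Lib.closure_length (pr X z))
  obtain ⟨J, hJ, ⟨e⟩⟩ := (isSimpleModule_iff_quot_maximal (R := R) (M := N)).1 inferInstance
  obtain rfl := IsLocalRing.eq_maximalIdeal hJ
  let e₀ : (St z).obj (fib (pr X z)) ≃ₗ[(A1 X).presheaf.stalk z] TensorProduct R ((A1 X).presheaf.stalk z) N :=
    ((KFlatLib.stalkPullIso (pr X) z).app (Cyc.closureStructureSheaf (pr X z))).toLinearEquiv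
  let e₁ : TensorProduct R ((A1 X).presheaf.stalk z) N ≃ₗ[(A1 X).presheaf.stalk z]
      TensorProduct R ((A1 X).presheaf.stalk z) (R ⧸ IsLocalRing.maximalIdeal R) :=
    TensorProduct.AlgebraTensorModule.congr (LinearEquiv.refl ((A1 X).presheaf.stalk z) ((A1 X).presheaf.stalk z)) e
  exact ⟨e₀ ≪≫ₗ e₁ ≪≫ₗ
    (Algebra.TensorProduct.quotIdealMapEquivTensorQuot ((A1 X).presheaf.stalk z) (IsLocalRing.maximalIdeal R)).symm.toLinearEquiv⟩

theorem stalk_smulHom {A : Scheme.{u}} (M : A.Modules) (r : Coh.Γtop A) (z : A) (m : (St z).obj M) :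
    ((St z).map (StabLib.smulHom M r)).hom m = A.presheaf.germ ⊤ z trivial r • m := by
  obtain ⟨W, hW, s, rfl⟩ := DevissLib.exists_gm_eq M z m
  rw [DevissLib.gm_app, StabLib.smulHom_app, DevissLib.gm_smul, TopCat.Presheaf.germ_res_apply]

end Module

variable {X} [IsNoetherian X] [IsNoetherian (A1 X)]

/-- Multiplication by the coordinate on the pullback of the structure module of the closure of a point. -/
theorem fib_facts (x : X) :
    P (fun w => zsec X x ⤳ w ∧ w ≠ zsec X x) (kernel (StabLib.smulHom (fib x) (tc X))) ∧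
      P (fun w => zsec X x ⤳ w) (cokernel (StabLib.smulHom (fib x) (tc X))) ∧
        Module.length ((A1 X).presheaf.stalk (zsec X x))
          ((St (zsec X x)).obj (cokernel (StabLib.smulHom (fib x) (tc X)))) = 1 := by
  let z := zsec X x
  let D : A1 X → Prop := fun w => z ⤳ w
  let D' : A1 X → Prop := fun w => z ⤳ w ∧ w ≠ z
  have hzz : pr X z = x := pr_zsec X x
  obtain ⟨e⟩ := exists_equiv_stalk x z hzz
  let F := fib x
  let τ := (A1 X).presheaf.germ ⊤ z trivial (tc X)
  let m := StabLib.smulHom F (tc X)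
  obtain ⟨h1, h2⟩ := facts X x
  have hF := isCoh_fib x
  have hm : ∀ q, e (((St z).map m).hom q) = τ • e q := fun q => by rw [stalk_smulHom, map_smul]
  have hinj : Function.Injective ((St z).map m).hom := fun a b hab => e.injective (by
    have h := congrArg e hab
    rw [hm, hm, ← sub_eq_zero, ← smul_sub] at h
    obtain ⟨s, hs⟩ := Submodule.Quotient.mk_surjective _ (e a - e b)
    rw [← hs, ← Submodule.Quotient.mk_smul, Submodule.Quotient.mk_eq_zero, smul_eq_mul] at h
    rw [← sub_eq_zero, ← hs, Submodule.Quotient.mk_eq_zero]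
    exact h1 s h)
  have hsupp : ∀ {M : (A1 X).Modules}, CohB1.support M ⊆ CohB1.support F →
      (∀ w ∈ CohB1.support M, ¬ IsUnit ((A1 X).presheaf.germ ⊤ w trivial (tc X))) →
        ∀ w ∈ CohB1.support M, z ⤳ w := by
    intro M hM hu w hw
    have hwZ : w ∈ Set.range (zsec X) := by
      rw [range_zsec]
      exact fun hb => hu w hw (by rwa [SetLike.mem_coe, Scheme.mem_basicOpen_top] at hb)
    obtain ⟨x', rfl⟩ := hwZ
    have := support_fib x (hM hw)
    rw [pr_zsec] at this
    exact (specializes_iff_mem_closure.2 this).map (zsec X).continuous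
  have hbij : ∀ w : A1 X, IsUnit ((A1 X).presheaf.germ ⊤ w trivial (tc X)) →
      Function.Bijective ((St w).map m).hom := fun w hw => by
    have he : ⇑((St w).map m).hom = fun q => (hw.unit : (A1 X).presheaf.stalk w) • q :=
      funext fun q => (stalk_smulHom F (tc X) w q).trans (by rw [hw.unit_spec])
    rw [he]
    exact ⟨fun a b h => (IsUnit.smul_left_cancel hw).1 h,
      fun c => ⟨(hw.unit⁻¹ : ((A1 X).presheaf.stalk w)ˣ) • c, by simp [Units.smul_def, smul_smul]⟩⟩
  haveI := hF.1
  have hK : P D' (kernel m) := P.mk (QCohLib.isCoh_kernel m hF hF.1) fun w hw =>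
    ⟨hsupp (DevissLib.support_mono (kernel.ι m))
      (fun w' hw' hu => DevissLib.notMem_support_kernel m w' (hbij w' hu).1 hw') w hw,
      fun e' => DevissLib.notMem_support_kernel m z hinj (e' ▸ hw)⟩
  have hQ : P D (cokernel m) := P.mk (QCohLib.isCoh_cokernel m hF.1 hF) fun w hw =>
    hsupp (DevissLib.support_epi (cokernel.π m))
      (fun w' hw' hu => DevissLib.notMem_support_cokernel m w' (hbij w' hu).2 hw') w hw
  refine ⟨hK, hQ, ?_⟩
  obtain ⟨g, hg⟩ := e.surjective (Submodule.Quotient.mk 1)
  rw [CycK0Lib.length_coker m g (fun q => ?_) (IsLocalRing.maximalIdeal _) (fun r => ?_)]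
  · rw [Module.length_eq_one_iff]
    exact isSimpleModule_iff_quot_maximal.2 ⟨_, inferInstance, ⟨LinearEquiv.refl _ _⟩⟩
  · obtain ⟨r, hr⟩ := Submodule.Quotient.mk_surjective _ (e q)
    exact ⟨r, e.injective (by rw [map_smul, hg, ← Submodule.Quotient.mk_smul, smul_eq_mul, mul_one, hr])⟩
  · constructor
    · rintro ⟨q, hq⟩
      have h := congrArg e hq
      rw [hm, map_smul, hg] at h
      obtain ⟨s, hs⟩ := Submodule.Quotient.mk_surjective _ (e q)
      rw [← hs, ← Submodule.Quotient.mk_smul, ← Submodule.Quotient.mk_smul, Submodule.Quotient.eq,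
        smul_eq_mul, smul_eq_mul, mul_one] at h
      refine h2.le ?_
      have : r = τ * s - (τ * s - r) := by ring
      rw [this]
      exact sub_mem (Ideal.mem_sup_right (Ideal.mem_span_singleton'.2 ⟨s, mul_comm _ _⟩)) (Ideal.mem_sup_left h)
    · intro hr
      obtain ⟨a, ha, b, hb, rfl⟩ := Submodule.mem_sup.1 (h2.ge hr)
      obtain ⟨s, rfl⟩ := Ideal.mem_span_singleton'.1 hb
      obtain ⟨q, hq⟩ := e.surjective (Submodule.Quotient.mk s)
      refine ⟨q, e.injective ?_⟩
      rw [hm, map_smul, hg, hq, ← Submodule.Quotient.mk_smul, ← Submodule.Quotient.mk_smul, Submodule.Quotient.eq,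
        smul_eq_mul, smul_eq_mul, mul_one, show τ * s - (a + s * τ) = -a by ring]
      exact neg_mem ha

theorem levels_zsec (x : X) :
    Levels (fun w => zsec X x ⤳ w) (fun w => zsec X x ⤳ w ∧ w ≠ zsec X x) :=
  ⟨fun _ h => h.1, fun w y hw hy h => by
    by_contra hne
    have hwz : w = zsec X x := by
      by_contra hwz
      exact hw ⟨hy.trans h, hwz⟩
    subst hwz
    exact hne (h.antisymm hy).eq⟩

theorem cl_closure_mem_lower (x : X) :
    cl (Cyc.closureStructureSheaf (zsec X x)) ∈
      lower (fun w => zsec X x ⤳ w ∧ w ≠ zsec X x) := by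
  let z := zsec X x
  let F := fib x
  let m := StabLib.smulHom F (tc X)
  have hF := isCoh_fib x
  haveI := hF.1
  obtain ⟨hK, hQ, hlen⟩ := fib_facts x
  have L := levels_zsec (X := X) x
  have hsp : ∀ a b, z ⤳ a → a ⤳ b → z ⤳ b := fun a b ha hab => ha.trans hab
  have heq : cl (kernel m) = cl (cokernel m) := by
    have hI := DevissLib.isCoh_image m hF hF
    have a := (addOn_cl (fun _ : A1 X => True)).add _ (DevissLib.kerImSeq_shortExact m) (mem_top hK.coh) (mem_top hF) (mem_top hI)
    have b := (addOn_cl (fun _ : A1 X => True)).add _ (DevissLib.imCokSeq_shortExact m) (mem_top hI) (mem_top hF) (mem_top hQ.coh)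
    change cl F = cl (kernel m) + cl (Abelian.image m) at a
    change cl F = cl (Abelian.image m) + cl (cokernel m) at b
    rw [a, add_comm] at b
    exact add_left_cancel b
  have key := sub_sum_mem L hsp hQ {z} (fun w hw => by
      rw [Finset.mem_singleton] at hw
      subst hw
      exact ⟨fun h => h.2 rfl, specializes_rfl⟩)
    (fun w hw hw' => Finset.mem_singleton.2 (by
      by_contra hne
      exact hw' ⟨hQ.supp hw, hne⟩))
  rw [Finset.sum_singleton] at key
  erw [hlen] at key
  rw [show ((1 : ℕ∞)).toNat = 1 from rfl, one_smul, ← heq] at key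
  have h3 := sub_mem (cl_mem_lower hK) key
  rwa [sub_sub_cancel] at h3

theorem cl_closure_eq_zero (x : X) : cl (Cyc.closureStructureSheaf (zsec X x)) = 0 := by
  suffices key : ∀ (T : Closeds (A1 X)) (x : X), closure {zsec X x} = (T : Set (A1 X)) →
      cl (Cyc.closureStructureSheaf (zsec X x)) = 0 from key ⟨_, isClosed_closure⟩ x rfl
  intro T
  induction T using WellFoundedLT.induction with
  | _ T ih =>
  intro x hT
  refine (AddSubgroup.closure_le (⊥ : AddSubgroup (SGA6.Kcoh (A1 X)))).2 ?_ (cl_closure_mem_lower x)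
  rintro _ ⟨G, hG, rfl⟩
  refine (AddSubgroup.closure_le (⊥ : AddSubgroup (SGA6.Kcoh (A1 X)))).2 ?_ (cl_mem_closures hG.coh)
  rintro _ ⟨w, hw, rfl⟩
  obtain ⟨hzw, hne⟩ := hG.supp hw
  have hwZ : w ∈ Set.range (zsec X) := by
    have hcl : IsClosed (Set.range (zsec X)) := by
      rw [range_zsec]
      exact ((A1 X).basicOpen _).isOpen.isClosed_compl
    exact hzw.mem_closed hcl ⟨x, rfl⟩
  obtain ⟨x', rfl⟩ := hwZ
  refine ih ⟨_, isClosed_closure⟩ (lt_of_le_of_ne ?_ fun e => hne ?_) x' rfl
  · intro v hv
    exact hT.le (hzw.mem_closed isClosed_closure (subset_closure rfl) |> fun h =>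
      closure_minimal (Set.singleton_subset_iff.2 h) isClosed_closure hv)
  · have hh : zsec X x ∈ closure {zsec X x'} := by
      have := congrArg SetLike.coe e
      rw [show closure {zsec X x'} = (T : Set (A1 X)) from this]
      exact hT.le (subset_closure rfl)
    exact ((specializes_iff_mem_closure.2 hh).antisymm hzw).eq

/-- Coherent modules supported on the zero section have zero class. -/
theorem cl_eq_zero {G : (A1 X).Modules} (hG : Coh.IsCoh G)
    (hs : CohB1.support G ⊆ (((A1 X).basicOpen (tc X) : Set (A1 X)))ᶜ) : cl G = 0 := by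
  refine (AddSubgroup.closure_le (⊥ : AddSubgroup (SGA6.Kcoh (A1 X)))).2 ?_ (cl_mem_closures hG)
  rintro _ ⟨w, hw, rfl⟩
  obtain ⟨x, rfl⟩ := (range_zsec X).ge (hs hw)
  exact cl_closure_eq_zero x

end CohGenLib.Line

end
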